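import Mathlib
import Groth.Prelude.Def_W4c2gaugesfzipsQuiet

set_option autoImplicit false
set_option backward.isDefEq.respectTransparency.types false
set_option synthInstance.maxHeartbeats 400000
set_option maxHeartbeats 4000000
set_option linter.style.haveILetI false
set_option linter.unusedSectionVars false
set_option linter.unusedVariables false
set_option linter.unusedSimpArgs false
set_option linter.unnecessarySimpa false

/-! helper2: root towers: base change of `AdjoinRoot` as a pushout of commutative rings, lifting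
root towers along surjections, transport of root towers along ring isomorphisms. -/

open Polynomial CategoryTheory CategoryTheory.Limits

universe u

namespace Groth.Agent.Helper2.QuietLib

section AdjoinRootPushout

variable {A A₀ : Type u} [CommRing A] [CommRing A₀] (φ : A →+* A₀) (f : A[X]) (f₀ : A₀[X])
  (h : f.map φ = f₀)

theorem arMap_mk (g : A[X]) :
    AdjoinRoot.map φ f f₀ (by rw [h]) (AdjoinRoot.mk f g) = AdjoinRoot.mk f₀ (g.map φ) := by
  unfold AdjoinRoot.map
  rw [AdjoinRoot.lift_mk, ← AdjoinRoot.aeval_eq, Polynomial.aeval_def, Polynomial.eval₂_map,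
    AdjoinRoot.algebraMap_eq]

theorem arMap_surjective (hφ : Function.Surjective φ) :
    Function.Surjective (AdjoinRoot.map φ f f₀ (by rw [h])) := by
  intro x
  obtain ⟨g₀, rfl⟩ := AdjoinRoot.mk_surjective x
  obtain ⟨g, rfl⟩ := Polynomial.map_surjective φ hφ g₀
  exact ⟨AdjoinRoot.mk f g, arMap_mk φ f f₀ h g⟩

/-- base change of `AdjoinRoot` is a pushout. -/
theorem isPushout_adjoinRoot :
    IsPushout (CommRingCat.ofHom φ) (CommRingCat.ofHom (AdjoinRoot.of f))
      (CommRingCat.ofHom (AdjoinRoot.of f₀))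
      (CommRingCat.ofHom (AdjoinRoot.map φ f f₀ (by rw [h]))) := by
  have w : CommRingCat.ofHom φ ≫ CommRingCat.ofHom (AdjoinRoot.of f₀) =
      CommRingCat.ofHom (AdjoinRoot.of f) ≫
        CommRingCat.ofHom (AdjoinRoot.map φ f f₀ (by rw [h])) := by
    ext a
    simp
  have key : ∀ s : PushoutCocone (CommRingCat.ofHom φ) (CommRingCat.ofHom (AdjoinRoot.of f)),
      f₀.eval₂ s.inl.hom (s.inr.hom (AdjoinRoot.root f)) = 0 := by
    intro s
    have hc : s.inl.hom.comp φ = s.inr.hom.comp (AdjoinRoot.of f) := by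
      have := s.condition
      ext a
      exact congr($(this).hom a)
    rw [← h, Polynomial.eval₂_map, hc, ← Polynomial.hom_eval₂, AdjoinRoot.eval₂_root, map_zero]
  refine ⟨⟨w⟩, ⟨PushoutCocone.IsColimit.mk w
    (fun s => CommRingCat.ofHom (AdjoinRoot.lift s.inl.hom (s.inr.hom (AdjoinRoot.root f)) (key s)))
    (fun s => ?_) (fun s => ?_) (fun s m h1 h2 => ?_)⟩⟩
  · ext a
    simp
  · apply CommRingCat.hom_ext
    apply AdjoinRoot.ringHom_ext
    · ext a
      have hc := s.condition
      simp only [CommRingCat.hom_comp, CommRingCat.hom_ofHom, RingHom.comp_apply,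
        AdjoinRoot.map_of, AdjoinRoot.lift_of]
      exact congr($(hc).hom a)
    · simp
  · apply CommRingCat.hom_ext
    apply AdjoinRoot.ringHom_ext
    · ext a
      simp only [CommRingCat.hom_ofHom, RingHom.comp_apply, AdjoinRoot.lift_of]
      exact congr($(h1).hom a)
    · simp only [CommRingCat.hom_ofHom, AdjoinRoot.lift_root]
      have := congr($(h2).hom (AdjoinRoot.root f))
      simpa using this

end AdjoinRootPushout

/-- root towers lift along surjections. -/
theorem exists_rootTower_lift (p : ℕ) (n : ℕ) :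
    ∀ (A A₀ B₀ : Type u) [CommRing A] [CommRing A₀] [CommRing B₀] [Algebra A₀ B₀]
      (φ : A →+* A₀) (hφ : Function.Surjective φ) (h : Quiet.IsRootTower p n A₀ B₀),
      ∃ (B : Type u) (_ : CommRing B) (_ : Algebra A B) (φ' : B →+* B₀),
        Quiet.IsRootTower p n A B ∧
          IsPushout (CommRingCat.ofHom φ) (CommRingCat.ofHom (algebraMap A B))
            (CommRingCat.ofHom (algebraMap A₀ B₀)) (CommRingCat.ofHom φ') := by
  induction n with
  | zero =>
    intro A A₀ B₀ _ _ _ _ φ hφ h
    obtain ⟨e⟩ := h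
    refine ⟨A, inferInstance, Algebra.id A, e.symm.toRingEquiv.toRingHom.comp φ,
      ⟨AlgEquiv.refl⟩, ?_⟩
    have e1 : CommRingCat.ofHom (algebraMap A₀ B₀) =
        CommRingCat.ofHom e.symm.toRingEquiv.toRingHom := by
      congr 1
      ext a
      have := e.symm.commutes a
      exact this.symm
    haveI : IsIso (CommRingCat.ofHom (algebraMap A₀ B₀)) := by
      rw [e1]
      exact (e.symm.toRingEquiv.toCommRingCatIso).isIso_hom
    haveI : IsIso (CommRingCat.ofHom (algebraMap A A)) := by
      have : CommRingCat.ofHom (algebraMap A A) = 𝟙 _ := rfl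
      rw [this]; infer_instance
    refine IsPushout.of_vert_isIso ⟨?_⟩
    rw [e1]
    rfl
  | succ n ih =>
    intro A A₀ B₀ _ _ _ _ φ hφ h
    obtain ⟨a₀, alg₁, tower, h'⟩ := h
    obtain ⟨a, rfl⟩ := hφ a₀
    have hmap : (X ^ p - C a : A[X]).map φ = X ^ p - C (φ a) := by simp
    obtain ⟨B, iB, algB, φ', hB, hpush⟩ := ih (Quiet.RootRing p A a) (Quiet.RootRing p A₀ (φ a)) B₀
      (AdjoinRoot.map φ _ _ (by rw [hmap])) (arMap_surjective φ _ _ hmap hφ) h'
    letI algAB : Algebra A B :=
      ((algebraMap (Quiet.RootRing p A a) B).comp (AdjoinRoot.of (X ^ p - C a))).toAlgebra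
    haveI towerA : IsScalarTower A (Quiet.RootRing p A a) B :=
      IsScalarTower.of_algebraMap_eq' rfl
    refine ⟨B, iB, algAB, φ', ⟨a, algB, towerA, hB⟩, ?_⟩
    have s1 := isPushout_adjoinRoot φ (X ^ p - C a) (X ^ p - C (φ a)) hmap
    have s := s1.paste_vert hpush
    have e1 : CommRingCat.ofHom (AdjoinRoot.of (X ^ p - C (φ a))) ≫
        CommRingCat.ofHom (algebraMap (Quiet.RootRing p A₀ (φ a)) B₀) =
        CommRingCat.ofHom (algebraMap A₀ B₀) := by
      rw [← CommRingCat.ofHom_comp, IsScalarTower.algebraMap_eq A₀ (Quiet.RootRing p A₀ (φ a)) B₀]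
      rfl
    rw [e1] at s
    exact s

/-- root towers are invariant under isomorphisms. -/
theorem isRootTower_of_equiv (p : ℕ) (n : ℕ) :
    ∀ (A B A' B' : Type u) [CommRing A] [CommRing B] [Algebra A B] [CommRing A'] [CommRing B']
      [Algebra A' B'] (α : A ≃+* A') (β : B ≃+* B')
      (hαβ : ∀ a, β (algebraMap A B a) = algebraMap A' B' (α a)),
      Quiet.IsRootTower p n A B → Quiet.IsRootTower p n A' B' := by
  induction n with
  | zero =>
    intro A B A' B' _ _ _ _ _ _ α β hαβ h
    obtain ⟨e⟩ := h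
    refine ⟨AlgEquiv.ofRingEquiv (f := β.symm.trans (e.toRingEquiv.trans α)) ?_⟩
    intro a'
    obtain ⟨a, rfl⟩ := α.surjective a'
    rw [← hαβ]
    simp only [RingEquiv.trans_apply, RingEquiv.symm_apply_apply]
    have := e.commutes a
    change α (e (algebraMap A B a)) = α a
    rw [this]
    rfl
  | succ n ih =>
    intro A B A' B' _ _ _ _ _ _ α β hαβ h
    obtain ⟨a, alg₁, tower, h'⟩ := h
    have hmap : (X ^ p - C a : A[X]).map (α : A →+* A') = X ^ p - C (α a) := by simp
    let α₁ : Quiet.RootRing p A a ≃+* Quiet.RootRing p A' (α a) :=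
      AdjoinRoot.mapRingEquiv α _ _ (by rw [hmap])
    have hα₁of : ∀ x : A, α₁ (AdjoinRoot.of _ x) = AdjoinRoot.of _ (α x) := by
      intro x
      exact AdjoinRoot.map_of (α : A →+* A') (X ^ p - C a) (X ^ p - C (α a))
        (by rw [hmap]) x
    letI alg₁' : Algebra (Quiet.RootRing p A' (α a)) B' :=
      ((β : B →+* B').comp ((algebraMap (Quiet.RootRing p A a) B).comp
        (α₁.symm : _ →+* _))).toAlgebra
    have hcomp : ∀ x : Quiet.RootRing p A a,
        β (algebraMap (Quiet.RootRing p A a) B x) =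
          algebraMap (Quiet.RootRing p A' (α a)) B' (α₁ x) := by
      intro x
      change _ = β (algebraMap (Quiet.RootRing p A a) B (α₁.symm (α₁ x)))
      rw [RingEquiv.symm_apply_apply]
    haveI tower' : IsScalarTower A' (Quiet.RootRing p A' (α a)) B' := by
      apply IsScalarTower.of_algebraMap_eq
      intro a'
      obtain ⟨x, rfl⟩ := α.surjective a'
      have e2 : algebraMap A' (Quiet.RootRing p A' (α a)) (α x) = α₁ (AdjoinRoot.of _ x) :=
        (hα₁of x).symm
      rw [e2, ← hcomp, ← hαβ]
      congr 1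
      exact IsScalarTower.algebraMap_apply A (Quiet.RootRing p A a) B x
    exact ⟨α a, alg₁', tower', ih _ _ _ _ α₁ β hcomp h'⟩

end Groth.Agent.Helper2.QuietLib
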