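import Mathlib
import Groth.Prelude.Def_W4c2gaugesfzipsQuiet
import Groth.Agent.Lib.Helper2.Quiet.Ring

set_option autoImplicit false
set_option backward.isDefEq.respectTransparency.types false
set_option synthInstance.maxHeartbeats 400000
set_option maxHeartbeats 4000000
set_option linter.style.haveILetI false
set_option linter.unusedSectionVars false
set_option linter.unusedVariables false
set_option linter.unusedSimpArgs false
set_option linter.unnecessarySimpa false

/-! helper2: root towers as a property of ring homomorphisms: composition, base change (pushouts),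
and the polynomial `expand` maps. -/

open Polynomial CategoryTheory CategoryTheory.Limits

universe u

namespace Groth.Agent.Helper2.QuietLib

/-- composition of root towers (algebra form). -/
theorem isRootTower_comp (p : ℕ) (n m : ℕ) :
    ∀ (A B C : Type u) [CommRing A] [CommRing B] [CommRing C] [Algebra A B] [Algebra B C]
      [Algebra A C] [IsScalarTower A B C], Quiet.IsRootTower p n A B → Quiet.IsRootTower p m B C →
      Quiet.IsRootTower p (n + m) A C := by
  induction n with
  | zero =>
    intro A B C _ _ _ _ _ _ _ h1 h2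
    obtain ⟨e⟩ := h1
    rw [Nat.zero_add]
    refine isRootTower_of_equiv p m B C A C e.toRingEquiv (RingEquiv.refl C) ?_ h2
    intro b
    change algebraMap B C b = algebraMap A C (e b)
    rw [IsScalarTower.algebraMap_apply A B C]
    congr 1
    have h := e.symm.commutes (e b)
    have h' : e.symm (e b) = b := e.symm_apply_apply b
    rw [← h, Algebra.algebraMap_self_apply, h']
  | succ n ih =>
    intro A B C _ _ _ _ _ _ _ h1 h2
    obtain ⟨a, alg₁, tower, h'⟩ := h1
    letI algC : Algebra (Quiet.RootRing p A a) C :=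
      ((algebraMap B C).comp (algebraMap (Quiet.RootRing p A a) B)).toAlgebra
    haveI t1 : IsScalarTower (Quiet.RootRing p A a) B C := IsScalarTower.of_algebraMap_eq' rfl
    haveI t2 : IsScalarTower A (Quiet.RootRing p A a) C := by
      apply IsScalarTower.of_algebraMap_eq
      intro x
      change algebraMap A C x = algebraMap B C (algebraMap (Quiet.RootRing p A a) B
        (algebraMap A (Quiet.RootRing p A a) x))
      rw [← IsScalarTower.algebraMap_apply A (Quiet.RootRing p A a) B,
        ← IsScalarTower.algebraMap_apply A B C]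
    rw [Nat.succ_add]
    exact ⟨a, algC, t2, ih (Quiet.RootRing p A a) B C h' h2⟩

/-- base change of root towers (pushout form). -/
theorem isRootTower_of_isPushout (p : ℕ) (n : ℕ) :
    ∀ (A B A' B' : Type u) [CommRing A] [CommRing B] [Algebra A B] [CommRing A'] [CommRing B']
      [Algebra A' B'] (φ : A →+* A') (ψ : B →+* B'),
      IsPushout (CommRingCat.ofHom φ) (CommRingCat.ofHom (algebraMap A B))
        (CommRingCat.ofHom (algebraMap A' B')) (CommRingCat.ofHom ψ) →
      Quiet.IsRootTower p n A B → Quiet.IsRootTower p n A' B' := by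
  induction n with
  | zero =>
    intro A B A' B' _ _ _ _ _ _ φ ψ hpo h
    obtain ⟨e⟩ := h
    have e1 : CommRingCat.ofHom (algebraMap A B) =
        CommRingCat.ofHom e.symm.toRingEquiv.toRingHom := by
      congr 1
      ext a
      have := e.symm.commutes a
      exact this.symm
    haveI : IsIso (CommRingCat.ofHom (algebraMap A B)) := by
      rw [e1]
      exact (e.symm.toRingEquiv.toCommRingCatIso).isIso_hom
    haveI hiso : IsIso (CommRingCat.ofHom (algebraMap A' B')) := hpo.isIso_inl_of_isIso
    have hbij : Function.Bijective (algebraMap A' B') :=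
      ConcreteCategory.bijective_of_isIso (CommRingCat.ofHom (algebraMap A' B'))
    exact ⟨(AlgEquiv.ofBijective (Algebra.ofId A' B') hbij).symm⟩
  | succ n ih =>
    intro A B A' B' _ _ _ _ _ _ φ ψ hpo h
    obtain ⟨a, alg₁, tower, h'⟩ := h
    have hmap : (X ^ p - C a : A[X]).map φ = X ^ p - C (φ a) := by simp
    have s1 := isPushout_adjoinRoot φ (X ^ p - C a) (X ^ p - C (φ a)) hmap
    have hAB : CommRingCat.ofHom (algebraMap A B) =
        CommRingCat.ofHom (AdjoinRoot.of (X ^ p - C a)) ≫
          CommRingCat.ofHom (algebraMap (Quiet.RootRing p A a) B) := by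
      rw [← CommRingCat.ofHom_comp, IsScalarTower.algebraMap_eq A (Quiet.RootRing p A a) B]
      rfl
    have hcond : CommRingCat.ofHom φ ≫ CommRingCat.ofHom (algebraMap A' B') =
        CommRingCat.ofHom (AdjoinRoot.of (X ^ p - C a)) ≫
          (CommRingCat.ofHom (algebraMap (Quiet.RootRing p A a) B) ≫ CommRingCat.ofHom ψ) := by
      rw [hpo.w, hAB, Category.assoc]
    obtain ⟨d, hd⟩ : ∃ d : CommRingCat.of (Quiet.RootRing p A' (φ a)) ⟶ CommRingCat.of B',
        d = s1.desc (CommRingCat.ofHom (algebraMap A' B'))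
          (CommRingCat.ofHom (algebraMap (Quiet.RootRing p A a) B) ≫ CommRingCat.ofHom ψ) hcond :=
      ⟨_, rfl⟩
    have hd1 : CommRingCat.ofHom (AdjoinRoot.of (X ^ p - C (φ a))) ≫ d =
        CommRingCat.ofHom (algebraMap A' B') := by rw [hd]; exact s1.inl_desc _ _ _
    have hd2 : CommRingCat.ofHom (AdjoinRoot.map φ (X ^ p - C a) (X ^ p - C (φ a))
        (by rw [hmap])) ≫ d =
        CommRingCat.ofHom (algebraMap (Quiet.RootRing p A a) B) ≫ CommRingCat.ofHom ψ := by
      rw [hd]; exact s1.inr_desc _ _ _
    letI alg₁' : Algebra (Quiet.RootRing p A' (φ a)) B' := d.hom.toAlgebra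
    haveI tower' : IsScalarTower A' (Quiet.RootRing p A' (φ a)) B' := by
      apply IsScalarTower.of_algebraMap_eq
      intro x
      exact (congr($(hd1).hom x)).symm
    have big : IsPushout (CommRingCat.ofHom φ)
        (CommRingCat.ofHom (AdjoinRoot.of (X ^ p - C a)) ≫
          CommRingCat.ofHom (algebraMap (Quiet.RootRing p A a) B))
        (CommRingCat.ofHom (AdjoinRoot.of (X ^ p - C (φ a))) ≫ d) (CommRingCat.ofHom ψ) := by
      rw [hd1, ← hAB]
      exact hpo
    have bot := IsPushout.of_top big hd2 s1
    exact ⟨φ a, alg₁', tower', ih (Quiet.RootRing p A a) B (Quiet.RootRing p A' (φ a)) B'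
      (AdjoinRoot.map φ (X ^ p - C a) (X ^ p - C (φ a)) (by rw [hmap])) ψ bot h'⟩

/-- the root-tower property of a ring homomorphism. -/
def RT (p n : ℕ) {A B : Type u} [CommRing A] [CommRing B] (f : A →+* B) : Prop :=
  letI := f.toAlgebra
  Quiet.IsRootTower p n A B

section RTapi

variable {p n m : ℕ} {A B D A' B' : Type u} [CommRing A] [CommRing B] [CommRing D] [CommRing A']
  [CommRing B']

theorem RT.of_isRootTower [Algebra A B] (h : Quiet.IsRootTower p n A B) :
    RT p n (algebraMap A B) :=
  @isRootTower_of_equiv p n A B A B _ _ _ _ _ (algebraMap A B).toAlgebra (RingEquiv.refl A)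
    (RingEquiv.refl B) (fun a => rfl) h

theorem RT.isRootTower [Algebra A B] {f : A →+* B} (h : RT p n f)
    (hf : ∀ a, f a = algebraMap A B a) : Quiet.IsRootTower p n A B :=
  @isRootTower_of_equiv p n A B A B _ _ f.toAlgebra _ _ _ (RingEquiv.refl A)
    (RingEquiv.refl B) (fun a => hf a) h

theorem RT.of_equiv {f : A →+* B} {f' : A' →+* B'} (α : A ≃+* A') (β : B ≃+* B')
    (h : ∀ a, β (f a) = f' (α a)) (hf : RT p n f) : RT p n f' :=
  @isRootTower_of_equiv p n A B A' B' _ _ f.toAlgebra _ _ f'.toAlgebra α β h hf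

theorem RT.congr {f f' : A →+* B} (h : ∀ a, f a = f' a) (hf : RT p n f) : RT p n f' :=
  RT.of_equiv (RingEquiv.refl A) (RingEquiv.refl B) h hf

theorem RT.of_bijective {f : A →+* B} (hf : Function.Bijective f) : RT p 0 f := by
  letI := f.toAlgebra
  exact ⟨(AlgEquiv.ofBijective (Algebra.ofId A B) hf).symm⟩

theorem RT.comp {f : A →+* B} {g : B →+* D} (hf : RT p n f) (hg : RT p m g) :
    RT p (n + m) (g.comp f) := by
  letI i1 := f.toAlgebra
  letI i2 := g.toAlgebra
  letI i3 := (g.comp f).toAlgebra
  haveI : IsScalarTower A B D := IsScalarTower.of_algebraMap_eq' rfl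
  exact isRootTower_comp p n m A B D hf hg

theorem RT.of_isPushout {f : A →+* B} {f' : A' →+* B'} (φ : A →+* A') (ψ : B →+* B')
    (h : IsPushout (CommRingCat.ofHom φ) (CommRingCat.ofHom f) (CommRingCat.ofHom f')
      (CommRingCat.ofHom ψ)) (hf : RT p n f) : RT p n f' := by
  letI i1 := f.toAlgebra
  letI i2 := f'.toAlgebra
  exact isRootTower_of_isPushout p n A B A' B' φ ψ h hf

theorem RT.adjoinRoot (p : ℕ) (a : A) : RT p 1 (AdjoinRoot.of (X ^ p - C a : A[X])) := by
  have h : Quiet.IsRootTower p 1 A (Quiet.RootRing p A a) :=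
    ⟨a, Algebra.id _, inferInstance, ⟨AlgEquiv.refl⟩⟩
  exact RT.congr (fun x => rfl) (RT.of_isRootTower h)

end RTapi

section PolyExpand

variable (p : ℕ) (R : Type u) [CommRing R]

/-- `R[X] → R[X]`, `X ↦ X ^ p`, is an elementary root extraction. -/
theorem RT.polyExpand : RT p 1 ((Polynomial.expand R p : R[X] →ₐ[R] R[X]) : R[X] →+* R[X]) := by
  obtain ⟨E, hE⟩ : ∃ E : R[X] →+* R[X], E = ((Polynomial.expand R p : R[X] →ₐ[R] R[X]) :
      R[X] →+* R[X]) := ⟨_, rfl⟩
  have hEX : E X = X ^ p := by rw [hE]; exact Polynomial.expand_X (R := R) (p := p)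
  have hEC : ∀ r : R, E (C r) = C r := by intro r; rw [hE]; exact Polynomial.expand_C (R := R) p r
  obtain ⟨f0, hf0⟩ : ∃ f0 : R[X][X], f0 = X ^ p - C (X : R[X]) := ⟨_, rfl⟩
  have h0 : f0.eval₂ E (X : R[X]) = 0 := by
    rw [hf0, Polynomial.eval₂_sub, Polynomial.eval₂_pow, Polynomial.eval₂_X, Polynomial.eval₂_C,
      hEX, sub_self]
  obtain ⟨e, he1, he2⟩ : ∃ e : AdjoinRoot f0 →+* R[X],
      (∀ g, e (AdjoinRoot.of f0 g) = E g) ∧ e (AdjoinRoot.root f0) = X :=
    ⟨AdjoinRoot.lift E X h0, fun g => AdjoinRoot.lift_of h0, AdjoinRoot.lift_root h0⟩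
  obtain ⟨j, hj1, hj2⟩ : ∃ j : R[X] →+* AdjoinRoot f0,
      (∀ r : R, j (C r) = AdjoinRoot.of f0 (C r)) ∧ j X = AdjoinRoot.root f0 :=
    ⟨Polynomial.eval₂RingHom ((AdjoinRoot.of f0).comp C) (AdjoinRoot.root f0),
      fun r => by rw [Polynomial.coe_eval₂RingHom, Polynomial.eval₂_C]; rfl,
      by rw [Polynomial.coe_eval₂RingHom, Polynomial.eval₂_X]⟩
  have hroot : (AdjoinRoot.root f0) ^ p = AdjoinRoot.of f0 X := by
    have := AdjoinRoot.eval₂_root f0
    rw [hf0, Polynomial.eval₂_sub, Polynomial.eval₂_pow, Polynomial.eval₂_X,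
      Polynomial.eval₂_C, ← hf0] at this
    exact sub_eq_zero.mp this
  have hje_of : ∀ g : R[X], j (E g) = AdjoinRoot.of f0 g := by
    intro g
    have : j.comp E = AdjoinRoot.of f0 := by
      apply Polynomial.ringHom_ext
      · intro r
        rw [RingHom.comp_apply, hEC, hj1]
      · rw [RingHom.comp_apply, hEX, map_pow, hj2, hroot]
    exact congr($this g)
  have hleft : Function.LeftInverse j e := by
    intro x
    have : (j.comp e) = RingHom.id _ := by
      apply AdjoinRoot.ringHom_ext
      · apply RingHom.ext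
        intro g
        rw [RingHom.comp_apply, RingHom.comp_apply, RingHom.comp_apply, he1, hje_of]
        rfl
      · rw [RingHom.comp_apply, he2, hj2]
        rfl
    exact congr($this x)
  have hright : Function.RightInverse j e := by
    intro g
    have : (e.comp j) = RingHom.id _ := by
      apply Polynomial.ringHom_ext
      · intro r
        rw [RingHom.comp_apply, hj1, he1, hEC]
        rfl
      · rw [RingHom.comp_apply, hj2, he2]
        rfl
    exact congr($this g)
  have hbij : Function.Bijective e := ⟨hleft.injective, hright.surjective⟩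
  have hcomp : ∀ g : R[X], (e.comp (AdjoinRoot.of f0)) g = E g := fun g => he1 g
  have hadj : RT p 1 (AdjoinRoot.of f0) := by
    rw [hf0]
    exact RT.adjoinRoot p (X : R[X])
  rw [← hE]
  exact RT.congr hcomp (RT.comp hadj (RT.of_bijective hbij))

/-- base change of a ring map to polynomial rings is a pushout. -/
theorem isPushout_polynomial_map {Q Q' : Type u} [CommRing Q] [CommRing Q'] (e : Q →+* Q') :
    IsPushout (CommRingCat.ofHom (C : Q →+* Q[X])) (CommRingCat.ofHom e)
      (CommRingCat.ofHom (Polynomial.mapRingHom e)) (CommRingCat.ofHom (C : Q' →+* Q'[X])) := by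
  have w : CommRingCat.ofHom (C : Q →+* Q[X]) ≫ CommRingCat.ofHom (Polynomial.mapRingHom e) =
      CommRingCat.ofHom e ≫ CommRingCat.ofHom (C : Q' →+* Q'[X]) := by
    ext a
    simp
  refine ⟨⟨w⟩, ⟨PushoutCocone.IsColimit.mk w
    (fun s => CommRingCat.ofHom (Polynomial.eval₂RingHom s.inr.hom (s.inl.hom X)))
    (fun s => ?_) (fun s => ?_) (fun s m h1 h2 => ?_)⟩⟩
  · apply CommRingCat.hom_ext
    apply Polynomial.ringHom_ext
    · intro a
      have hc := s.condition
      have := congr($(hc).hom a)
      simpa using this.symm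
    · simp
  · ext a
    simp
  · apply CommRingCat.hom_ext
    apply Polynomial.ringHom_ext
    · intro a
      have := congr($(h2).hom a)
      simpa using this
    · have := congr($(h1).hom X)
      simpa using this

end PolyExpand

section MvExpand

variable (p : ℕ) (R : Type u) [CommRing R]

theorem RT.mvExpand (n : ℕ) :
    RT p n ((MvPolynomial.expand p : MvPolynomial (Fin n) R →ₐ[R] MvPolynomial (Fin n) R) :
      MvPolynomial (Fin n) R →+* MvPolynomial (Fin n) R) := by
  induction n with
  | zero =>
    apply RT.of_bijective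
    have : ((MvPolynomial.expand p : MvPolynomial (Fin 0) R →ₐ[R] MvPolynomial (Fin 0) R) :
        MvPolynomial (Fin 0) R →+* MvPolynomial (Fin 0) R) = RingHom.id _ := by
      apply MvPolynomial.ringHom_ext
      · intro r
        simp
      · intro i
        exact i.elim0
    rw [this]
    exact Function.bijective_id
  | succ n ih =>
    have h1 := RT.of_isPushout _ _ (isPushout_polynomial_map
      ((MvPolynomial.expand p : MvPolynomial (Fin n) R →ₐ[R] MvPolynomial (Fin n) R) :
        MvPolynomial (Fin n) R →+* MvPolynomial (Fin n) R)) ih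
    have h2 := RT.polyExpand p (MvPolynomial (Fin n) R)
    have h3 := RT.comp h1 h2
    refine RT.of_equiv (MvPolynomial.finSuccEquiv R n).symm.toRingEquiv
      (MvPolynomial.finSuccEquiv R n).symm.toRingEquiv ?_ h3
    intro q
    obtain ⟨x, rfl⟩ := (MvPolynomial.finSuccEquiv R n).surjective q
    change (MvPolynomial.finSuccEquiv R n).symm _ =
      MvPolynomial.expand p ((MvPolynomial.finSuccEquiv R n).symm
        ((MvPolynomial.finSuccEquiv R n) x))
    rw [AlgEquiv.symm_apply_apply, AlgEquiv.symm_apply_eq]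
    have key : ((((Polynomial.expand (MvPolynomial (Fin n) R) p :
          (MvPolynomial (Fin n) R)[X] →ₐ[MvPolynomial (Fin n) R] (MvPolynomial (Fin n) R)[X]) :
          (MvPolynomial (Fin n) R)[X] →+* (MvPolynomial (Fin n) R)[X]).comp
        (Polynomial.mapRingHom ((MvPolynomial.expand p :
          MvPolynomial (Fin n) R →ₐ[R] MvPolynomial (Fin n) R) :
          MvPolynomial (Fin n) R →+* MvPolynomial (Fin n) R))).comp
        ((MvPolynomial.finSuccEquiv R n : MvPolynomial (Fin (n + 1)) R ≃ₐ[R] _) :
          MvPolynomial (Fin (n + 1)) R →+* _)) =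
        ((MvPolynomial.finSuccEquiv R n : MvPolynomial (Fin (n + 1)) R ≃ₐ[R] _) :
          MvPolynomial (Fin (n + 1)) R →+* _).comp
        ((MvPolynomial.expand p : MvPolynomial (Fin (n + 1)) R →ₐ[R] _) :
          MvPolynomial (Fin (n + 1)) R →+* _) := by
      apply MvPolynomial.ringHom_ext
      · intro r
        simp [MvPolynomial.finSuccEquiv_apply]
      · intro i
        refine Fin.cases ?_ (fun j => ?_) i
        · simp [MvPolynomial.finSuccEquiv_X_zero]
        · simp [MvPolynomial.finSuccEquiv_X_succ]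
    exact congr($key x)

end MvExpand

end Groth.Agent.Helper2.QuietLib
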