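import Mathlib
import Groth.Prelude.Def_FrobAlg
import Groth.Prelude.Def_Frob
import Groth.Prelude.Def_W4c2gaugesfzipsQuiet
import Groth.Agent.Lib.Helper2.Quiet.Tower
import Groth.Agent.Lib.Helper6.FrobSm.Smooth

set_option autoImplicit false
set_option backward.isDefEq.respectTransparency.types false
set_option synthInstance.maxHeartbeats 400000
set_option maxHeartbeats 4000000
set_option linter.style.haveILetI false
set_option linter.unusedSectionVars false
set_option linter.unusedVariables false
set_option linter.unusedSimpArgs false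
set_option linter.unnecessarySimpa false

/-! helper2: the relative Frobenius of an algebra etale over a polynomial ring is a root tower;
Frobenius of smooth algebras over perfect rings is locally a root tower. -/

open Polynomial CategoryTheory CategoryTheory.Limits TensorProduct

universe u

namespace Groth.Agent.Helper2.QuietLib

open Groth.Agent.Lib.Helper6.FrobSm Groth.Agent.Lib.Helper6.Versch.ER

section RelFrob

variable (p : ℕ) [hp : Fact p.Prime] (A : Type u) [CommRing A] [CharP A p]

theorem RT.relFrob_mvPolynomial (n : ℕ) :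
    RT p n (FrobAlg.relFrob p A (MvPolynomial (Fin n) A)) := by
  rw [relFrob_eq]
  have hb : Function.Bijective ((rho p A (Fin n) :
      FrobAlg.BaseChange p A (MvPolynomial (Fin n) A) →+* MvPolynomial (Fin n) A)) :=
    (rho p A (Fin n)).bijective
  have h := RT.comp (RT.of_bijective (p := p) hb) (RT.mvExpand p A n)
  rw [Nat.zero_add] at h
  exact h

end RelFrob

section Abstract

variable {V P' W B : Type u} [CommRing V] [CommRing P'] [CommRing W] [CommRing B]
  [Algebra V P'] [Algebra V W] [Algebra P' B] [Algebra W B]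

theorem RT.algebraMap_of_frobSquare [Algebra.Etale V W] [Algebra.Etale P' B] (p : ℕ)
    [hp : Fact p.Prime]
    (hcomm : ∀ v : V, algebraMap W B (algebraMap V W v) = algebraMap P' B (algebraMap V P' v))
    (hpV : ((p : ℕ) : V) = 0)
    (h : B →+* W) (hh : ∀ w : W, h (algebraMap W B w) = w ^ p)
    (hh' : ∀ b : B, algebraMap W B (h b) = b ^ p)
    (ν : P' → V) (hν1 : ∀ x, h (algebraMap P' B x) = algebraMap V W (ν x))
    (hν2 : ∀ x, algebraMap V P' (ν x) = x ^ p) (n : ℕ)
    (hP : RT p n (algebraMap V P')) : RT p n (algebraMap W B) := by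
  letI : Algebra V B := ((algebraMap P' B).comp (algebraMap V P')).toAlgebra
  haveI : IsScalarTower V P' B := IsScalarTower.of_algebraMap_eq (fun v => rfl)
  haveI : IsScalarTower V W B := IsScalarTower.of_algebraMap_eq (fun v => (hcomm v).symm)
  have hθ := theta_bijective (V := V) (P' := P') (W := W) (B := B) p hpV h hh hh' ν hν1 hν2
  have hpo := (CommRingCat.isPushout_tensorProduct V P' W).flip
  have h1 := RT.of_isPushout _ _ hpo hP
  have hθ' : Function.Bijective ((theta (V := V) (P' := P') (W := W) (B := B) :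
      P' ⊗[V] W →ₐ[P'] B) : P' ⊗[V] W →+* B) := hθ
  have h2 : RT p 0 ((theta (V := V) (P' := P') (W := W) (B := B) : P' ⊗[V] W →ₐ[P'] B) :
      P' ⊗[V] W →+* B) := RT.of_bijective hθ'
  have h3 := RT.comp h1 h2
  refine RT.congr ?_ h3
  intro w
  change theta (V := V) (P' := P') (W := W) (B := B) ((1 : P') ⊗ₜ[V] w) = algebraMap W B w
  rw [theta_tmul, map_one, one_mul]

end Abstract

section RelFrob

variable (p : ℕ) [hp : Fact p.Prime] (A : Type u) [CommRing A] [CharP A p]

theorem RT.relFrob_of_etale (n : ℕ) (B : Type u) [CommRing B] [Algebra A B] [CharP B p]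
    [Algebra (MvPolynomial (Fin n) A) B] [IsScalarTower A (MvPolynomial (Fin n) A) B]
    [Algebra.Etale (MvPolynomial (Fin n) A) B] : RT p n (FrobAlg.relFrob p A B) := by
  letI iVW : Algebra (FrobAlg.BaseChange p A (MvPolynomial (Fin n) A)) (FrobAlg.BaseChange p A B) :=
    twistAlgebra p A (MvPolynomial (Fin n) A) B
  haveI eVW : Algebra.Etale (FrobAlg.BaseChange p A (MvPolynomial (Fin n) A))
      (FrobAlg.BaseChange p A B) := twistMap_etale p A (MvPolynomial (Fin n) A) B
  have hpV : ((p : ℕ) : FrobAlg.BaseChange p A (MvPolynomial (Fin n) A)) = 0 :=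
    natCast_baseChange' p A (MvPolynomial (Fin n) A)
  letI iVP : Algebra (FrobAlg.BaseChange p A (MvPolynomial (Fin n) A)) (MvPolynomial (Fin n) A) :=
    (FrobAlg.relFrob p A (MvPolynomial (Fin n) A)).toAlgebra
  letI iWB : Algebra (FrobAlg.BaseChange p A B) B := (FrobAlg.relFrob p A B).toAlgebra
  have hP : RT p n (algebraMap (FrobAlg.BaseChange p A (MvPolynomial (Fin n) A))
      (MvPolynomial (Fin n) A)) := RT.relFrob_mvPolynomial p A n
  have key := RT.algebraMap_of_frobSquare (V := FrobAlg.BaseChange p A (MvPolynomial (Fin n) A))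
    (P' := MvPolynomial (Fin n) A) (W := FrobAlg.BaseChange p A B) (B := B) p
    (fun z => relFrob_twistMap p A (MvPolynomial (Fin n) A) B z) hpV
    (Algebra.TensorProduct.includeLeft : B →ₐ[A] FrobAlg.BaseChange p A B).toRingHom
    (fun w => (pow_p_eq_includeLeft' p A B w).symm)
    (fun b => by
      change FrobAlg.relFrob p A B (b ⊗ₜ[A] (1 : FrobAlg.Twist p A)) = b ^ p
      rw [relFrob_tmul'', map_one, map_one, mul_one])
    (fun x => x ⊗ₜ[A] (1 : FrobAlg.Twist p A))
    (fun x => rfl)
    (fun x => by
      change FrobAlg.relFrob p A (MvPolynomial (Fin n) A) (x ⊗ₜ[A] (1 : FrobAlg.Twist p A)) = x ^ p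
      rw [relFrob_tmul'', map_one, map_one, mul_one])
    n hP
  exact key

theorem includeLeft_bijective_of_perfect [PerfectRing A p] (B : Type u) [CommRing B]
    [Algebra A B] :
    Function.Bijective (Algebra.TensorProduct.includeLeft : B →ₐ[A] FrobAlg.BaseChange p A B) := by
  have hbij : Function.Bijective (algebraMap A (FrobAlg.Twist p A)) := by
    change Function.Bijective ((FrobAlg.toTwist p A : A →+* FrobAlg.Twist p A).comp
      (frobenius A p))
    exact (FrobAlg.toTwist p A).bijective.comp (bijective_frobenius A p)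
  obtain ⟨e, he⟩ : ∃ e : A ≃ₐ[A] FrobAlg.Twist p A, True :=
    ⟨AlgEquiv.ofBijective (Algebra.ofId A _) hbij, trivial⟩
  obtain ⟨E, hE⟩ : ∃ E : B ≃ₐ[A] B ⊗[A] FrobAlg.Twist p A,
      E = (Algebra.TensorProduct.rid A A B).symm.trans
        (Algebra.TensorProduct.congr AlgEquiv.refl e) := ⟨_, rfl⟩
  have hEb : ∀ b, E b = (Algebra.TensorProduct.includeLeft : B →ₐ[A] FrobAlg.BaseChange p A B) b := by
    intro b
    rw [hE]
    simp
  have : (⇑(Algebra.TensorProduct.includeLeft : B →ₐ[A] FrobAlg.BaseChange p A B)) = ⇑E := by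
    funext b
    exact (hEb b).symm
  rw [this]
  exact E.bijective

theorem RT.frobenius_of_etale [PerfectRing A p] (n : ℕ) (B : Type u) [CommRing B] [Algebra A B]
    [CharP B p] [Algebra (MvPolynomial (Fin n) A) B] [IsScalarTower A (MvPolynomial (Fin n) A) B]
    [Algebra.Etale (MvPolynomial (Fin n) A) B] : RT p n (frobenius B p) := by
  have h1 : RT p 0 ((Algebra.TensorProduct.includeLeft : B →ₐ[A] FrobAlg.BaseChange p A B) :
      B →+* FrobAlg.BaseChange p A B) :=
    RT.of_bijective (includeLeft_bijective_of_perfect p A B)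
  have h2 := RT.relFrob_of_etale p A n B
  have h3 := RT.comp h1 h2
  rw [Nat.zero_add] at h3
  refine RT.congr ?_ h3
  intro b
  change FrobAlg.relFrob p A B (b ⊗ₜ[A] (1 : FrobAlg.Twist p A)) = frobenius B p b
  rw [relFrob_tmul'', map_one, map_one, mul_one, frobenius_def]

theorem exists_RT_powHom_of_smooth [PerfectRing A p] (B : Type u) [CommRing B] [Algebra A B]
    [Algebra.Smooth A B] (x : PrimeSpectrum B) :
    ∃ g : B, g ∉ x.asIdeal ∧ ∃ (n : ℕ) (h0 : ((p : ℕ) : Localization.Away g) = 0),
      RT p n (FrobSch.powHom p (Localization.Away g) h0) := by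
  obtain ⟨s, hs, hstd⟩ := Algebra.Smooth.exists_span_eq_top_isStandardSmooth A B
  obtain ⟨g, hgs, hgx⟩ : ∃ g ∈ s, g ∉ x.asIdeal := by
    by_contra hcon
    have hcon' : ∀ g ∈ s, g ∈ x.asIdeal := by
      intro g hg
      by_contra hgx
      exact hcon ⟨g, hg, hgx⟩
    have hle : Ideal.span s ≤ x.asIdeal := Ideal.span_le.mpr hcon'
    rw [hs] at hle
    exact x.isPrime.ne_top (top_le_iff.mp hle)
  have hst := hstd g hgs
  haveI hnt : Nontrivial (Localization.Away g) := by
    have hu : IsUnit (algebraMap B (Localization.AtPrime x.asIdeal) g) :=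
      IsLocalization.map_units (Localization.AtPrime x.asIdeal)
        (⟨g, hgx⟩ : x.asIdeal.primeCompl)
    exact RingHom.domain_nontrivial (IsLocalization.Away.lift g hu :
      Localization.Away g →+* Localization.AtPrime x.asIdeal)
  haveI : CharP (Localization.Away g) p := charP_of_nontrivial p A (Localization.Away g)
  have hss : (algebraMap A (Localization.Away g)).IsStandardSmooth :=
    RingHom.isStandardSmooth_algebraMap.mpr hst
  obtain ⟨n, φ, hφ, hφet⟩ := RingHom.IsStandardSmooth.exists_etale_mvPolynomial hss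
  letI : Algebra (MvPolynomial (Fin n) A) (Localization.Away g) := φ.toAlgebra
  haveI : IsScalarTower A (MvPolynomial (Fin n) A) (Localization.Away g) :=
    IsScalarTower.of_algebraMap_eq (fun a => (RingHom.congr_fun hφ a).symm)
  haveI : Algebra.Etale (MvPolynomial (Fin n) A) (Localization.Away g) := hφet
  have h := RT.frobenius_of_etale p A n (Localization.Away g)
  exact ⟨g, hgx, n, CharP.cast_eq_zero _ p, RT.congr (fun b => rfl) h⟩

end RelFrob

end Groth.Agent.Helper2.QuietLib
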