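import Mathlib
import Groth.Prelude.Def_FrobAlg
import Groth.Prelude.Def_Frob
import Groth.Prelude.Def_W4c2gaugesfzipsQuiet
import Groth.Agent.Lib.Helper2.Quiet.FrobTower

set_option autoImplicit false
set_option backward.isDefEq.respectTransparency.types false
set_option synthInstance.maxHeartbeats 400000
set_option maxHeartbeats 4000000
set_option linter.style.haveILetI false
set_option linter.unusedSectionVars false
set_option linter.unusedVariables false
set_option linter.unusedSimpArgs false
set_option linter.unnecessarySimpa false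

/-! helper2: Frobenius of a smooth algebra over a perfect field is faithfully flat and an
extraction of `p`-th roots. -/

open CategoryTheory CategoryTheory.Limits AlgebraicGeometry Opposite TensorProduct

universe u

namespace Groth.Agent.Helper2.QuietLib

open Groth.Agent.Lib.Helper6.FrobSm Groth.Agent.Lib.Helper6.Versch.ER

theorem isPthRoot_SpecMap_of_local (p : ℕ) [hp : Fact p.Prime] {A : Type u} [CommRing A]
    (F : A →+* A) (hF : ∀ a, F a = a ^ p)
    (H : ∀ x : PrimeSpectrum A, ∃ g : A, g ∉ x.asIdeal ∧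
      ∃ (n : ℕ) (h0 : ((p : ℕ) : Localization.Away g) = 0),
        RT p n (FrobSch.powHom p (Localization.Away g) h0)) :
    Quiet.IsPthRoot p (Spec.map (CommRingCat.ofHom F)) := by
  intro x
  obtain ⟨g, hgx, n, h0, hRT⟩ := H x
  obtain ⟨f, hf⟩ : ∃ f : Spec (CommRingCat.of A) ⟶ Spec (CommRingCat.of A),
      f = Spec.map (CommRingCat.ofHom F) := ⟨_, rfl⟩
  rw [← hf]
  obtain ⟨γ, hγ⟩ : ∃ γ : A ≃+* Γ(Spec (CommRingCat.of A), ⊤),
      γ = (Scheme.ΓSpecIso (CommRingCat.of A)).symm.commRingCatIsoToRingEquiv := ⟨_, rfl⟩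
  have hfs : ∀ s : Γ(Spec (CommRingCat.of A), ⊤), f.appTop.hom s = s ^ p := by
    intro s
    obtain ⟨a, rfl⟩ := γ.surjective s
    have nat := Scheme.ΓSpecIso_inv_naturality (CommRingCat.ofHom F)
    have h1 : (Scheme.ΓSpecIso (CommRingCat.of A)).inv.hom (F a) =
        (Spec.map (CommRingCat.ofHom F)).appTop.hom
          ((Scheme.ΓSpecIso (CommRingCat.of A)).inv.hom a) := congr($(nat).hom a)
    rw [hf, hγ]
    change (Spec.map (CommRingCat.ofHom F)).appTop.hom
      ((Scheme.ΓSpecIso (CommRingCat.of A)).inv.hom a) =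
      ((Scheme.ΓSpecIso (CommRingCat.of A)).inv.hom a) ^ p
    rw [← h1, hF, map_pow]
  have hU : IsAffineOpen ((Spec (CommRingCat.of A)).basicOpen (γ g)) :=
    (isAffineOpen_top (Spec (CommRingCat.of A))).basicOpen (γ g)
  have hpre : f ⁻¹ᵁ ((Spec (CommRingCat.of A)).basicOpen (γ g)) =
      (Spec (CommRingCat.of A)).basicOpen (γ g) := by
    rw [Scheme.preimage_basicOpen_top]
    have : f.appTop (γ g) = (γ g) ^ p := hfs (γ g)
    rw [this, Scheme.basicOpen_pow _ _ hp.out.pos]
  have hxU : x ∈ (Spec (CommRingCat.of A)).basicOpen (γ g) := by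
    have e1 : (Spec (CommRingCat.of A)).basicOpen (γ g) = PrimeSpectrum.basicOpen g := by
      rw [hγ]
      exact basicOpen_eq_of_affine (R := CommRingCat.of A) g
    rw [e1]
    exact hgx
  have hU' : IsAffineOpen (f ⁻¹ᵁ ((Spec (CommRingCat.of A)).basicOpen (γ g))) := by
    rw [hpre]; exact hU
  refine ⟨⟨(Spec (CommRingCat.of A)).basicOpen (γ g), hU⟩, hxU, hU', n, ?_⟩
  change RT p n (f.app ((Spec (CommRingCat.of A)).basicOpen (γ g))).hom
  -- localization structure on sections over the basic open
  haveI loc1 : IsLocalization.Away (γ g) Γ(Spec (CommRingCat.of A),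
      (Spec (CommRingCat.of A)).basicOpen (γ g)) :=
    (isAffineOpen_top (Spec (CommRingCat.of A))).isLocalization_basicOpen (γ g)
  obtain ⟨θ, hθ⟩ : ∃ θ : Localization.Away g ≃+* Γ(Spec (CommRingCat.of A),
      (Spec (CommRingCat.of A)).basicOpen (γ g)), True :=
    ⟨IsLocalization.ringEquivOfRingEquiv _ _ γ (Submonoid.map_powers γ g), trivial⟩
  have hp1 : ((p : ℕ) : Γ(Spec (CommRingCat.of A),
      (Spec (CommRingCat.of A)).basicOpen (γ g))) = 0 := by
    have := congrArg θ h0
    rwa [map_natCast, map_zero] at this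
  have hA : RT p n (FrobSch.powHom p Γ(Spec (CommRingCat.of A),
      (Spec (CommRingCat.of A)).basicOpen (γ g)) hp1) := by
    refine RT.of_equiv θ θ ?_ hRT
    intro a
    change θ (a ^ p) = (θ a) ^ p
    rw [map_pow]
  -- the identification of sections over `f ⁻¹ᵁ U` and `U`
  obtain ⟨κ, hκ⟩ : ∃ κ : Γ(Spec (CommRingCat.of A),
        f ⁻¹ᵁ ((Spec (CommRingCat.of A)).basicOpen (γ g))) ≃+*
      Γ(Spec (CommRingCat.of A), (Spec (CommRingCat.of A)).basicOpen (γ g)),
      ∀ t, κ t = ((Spec (CommRingCat.of A)).presheaf.map (eqToHom hpre.symm).op).hom t :=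
    ⟨((Spec (CommRingCat.of A)).presheaf.mapIso (eqToIso hpre.symm).op).commRingCatIsoToRingEquiv,
      fun t => rfl⟩
  have hkey : ∀ a, κ ((f.app ((Spec (CommRingCat.of A)).basicOpen (γ g))).hom a) = a ^ p := by
    have : (κ : _ →+* _).comp (f.app ((Spec (CommRingCat.of A)).basicOpen (γ g))).hom =
        FrobSch.powHom p _ hp1 := by
      apply IsLocalization.ringHom_ext (Submonoid.powers (γ g))
      apply RingHom.ext
      intro s
      have nat := f.naturality (homOfLE (le_top :
        (Spec (CommRingCat.of A)).basicOpen (γ g) ≤ ⊤)).op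
      have h1 := congr($(nat).hom s)
      change κ ((f.app ((Spec (CommRingCat.of A)).basicOpen (γ g))).hom
        (((Spec (CommRingCat.of A)).presheaf.map (homOfLE (le_top :
          (Spec (CommRingCat.of A)).basicOpen (γ g) ≤ ⊤)).op).hom s)) =
        (((Spec (CommRingCat.of A)).presheaf.map (homOfLE (le_top :
          (Spec (CommRingCat.of A)).basicOpen (γ g) ≤ ⊤)).op).hom s) ^ p
      simp only [CommRingCat.hom_comp, RingHom.comp_apply] at h1
      rw [h1, hκ, ← map_pow, ← hfs s]
      change (((Spec (CommRingCat.of A)).presheaf.map _ ≫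
        (Spec (CommRingCat.of A)).presheaf.map _).hom (f.appTop.hom s)) = _
      rw [← Functor.map_comp]
      rfl
    intro a
    exact congr($this a)
  refine RT.of_equiv (RingEquiv.refl _) κ.symm ?_ hA
  intro a
  change κ.symm (a ^ p) = _
  rw [RingEquiv.symm_apply_eq, hkey]
  rfl

theorem comap_pow_eq (p : ℕ) (hp : 0 < p) {A : Type u} [CommRing A] (F : A →+* A)
    (hF : ∀ a, F a = a ^ p) (P : PrimeSpectrum A) : PrimeSpectrum.comap F P = P := by
  apply PrimeSpectrum.ext
  ext a
  change F a ∈ P.asIdeal ↔ a ∈ P.asIdeal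
  rw [hF]
  exact P.isPrime.pow_mem_iff_mem p hp

theorem main15046 (p : ℕ) [hp : Fact p.Prime]
    (k : Type u) [Field k] [CharP k p] [PerfectRing k p] (A : Type u) [CommRing A] [Algebra k A]
    [CharP A p] [Algebra.Smooth k A] :
    (frobenius A p).FaithfullyFlat ∧
      Quiet.IsPthRoot p (Spec.map (CommRingCat.ofHom (frobenius A p))) := by
  constructor
  · rw [RingHom.FaithfullyFlat.iff_flat_and_comap_surjective]
    constructor
    · have hfac : frobenius A p = (FrobAlg.relFrob p k A).comp
          ((Algebra.TensorProduct.includeLeft : A →ₐ[k] FrobAlg.BaseChange p k A) :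
            A →+* FrobAlg.BaseChange p k A) := by
        apply RingHom.ext
        intro b
        change frobenius A p b = FrobAlg.relFrob p k A (b ⊗ₜ[k] (1 : FrobAlg.Twist p k))
        rw [relFrob_tmul'', map_one, map_one, mul_one, frobenius_def]
      rw [hfac]
      exact RingHom.Flat.comp
        (RingHom.Flat.of_bijective (includeLeft_bijective_of_perfect p k A))
        (relFrob_flat_of_smooth p k A)
    · intro P
      exact ⟨P, comap_pow_eq p hp.out.pos (frobenius A p) (fun a => frobenius_def p a) P⟩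
  · exact isPthRoot_SpecMap_of_local p (frobenius A p) (fun a => frobenius_def p a)
      (fun x => exists_RT_powHom_of_smooth p k A x)

end Groth.Agent.Helper2.QuietLib
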