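import Mathlib
import Groth.Prelude.Def_FrobAlg
import Groth.Prelude.Def_Frob
import Groth.Prelude.Def_W4c2gaugesfzipsQuiet
import Groth.Agent.Lib.Helper2.Quiet.FrobSpec

set_option autoImplicit false
set_option backward.isDefEq.respectTransparency.types false
set_option synthInstance.maxHeartbeats 400000
set_option maxHeartbeats 4000000
set_option linter.style.haveILetI false
set_option linter.unusedSectionVars false
set_option linter.unusedVariables false
set_option linter.unusedSimpArgs false
set_option linter.unnecessarySimpa false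

/-! helper2: Frobenius on quotients of a smooth algebra over a perfect field:
regular sequences, faithful flatness, extraction of `p`-th roots. -/

open CategoryTheory CategoryTheory.Limits AlgebraicGeometry Opposite TensorProduct

universe u

namespace Groth.Agent.Helper2.QuietLib

open Groth.Agent.Lib.Helper6.FrobSm Groth.Agent.Lib.Helper6.Versch.ER

/-- (A) A ring map whose localizations at a cover of the source by basic opens are root towers
induces a `p`-th root morphism on spectra. -/
theorem isPthRoot_SpecMap_of_awayMap (p : ℕ) {R S : Type u} [CommRing R] [CommRing S]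
    (F : R →+* S)
    (H : ∀ x : PrimeSpectrum R, ∃ g : R, g ∉ x.asIdeal ∧
      ∃ n : ℕ, RT p n (Localization.awayMap F g)) :
    Quiet.IsPthRoot p (Spec.map (CommRingCat.ofHom F)) := by
  intro x
  obtain ⟨g, hgx, n, hRT⟩ := H x
  obtain ⟨f, hf⟩ : ∃ f : Spec (CommRingCat.of S) ⟶ Spec (CommRingCat.of R),
      f = Spec.map (CommRingCat.ofHom F) := ⟨_, rfl⟩
  rw [← hf]
  obtain ⟨γR, hγR⟩ : ∃ γ : R ≃+* Γ(Spec (CommRingCat.of R), ⊤),
      γ = (Scheme.ΓSpecIso (CommRingCat.of R)).symm.commRingCatIsoToRingEquiv := ⟨_, rfl⟩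
  obtain ⟨γS, hγS⟩ : ∃ γ : S ≃+* Γ(Spec (CommRingCat.of S), ⊤),
      γ = (Scheme.ΓSpecIso (CommRingCat.of S)).symm.commRingCatIsoToRingEquiv := ⟨_, rfl⟩
  have hnat : ∀ a : R, f.appTop.hom (γR a) = γS (F a) := by
    intro a
    have nat := Scheme.ΓSpecIso_inv_naturality (CommRingCat.ofHom F)
    have h1 : (Scheme.ΓSpecIso (CommRingCat.of S)).inv.hom (F a) =
        (Spec.map (CommRingCat.ofHom F)).appTop.hom
          ((Scheme.ΓSpecIso (CommRingCat.of R)).inv.hom a) := congr($(nat).hom a)
    rw [hf, hγR, hγS]
    exact h1.symm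
  have hU : IsAffineOpen ((Spec (CommRingCat.of R)).basicOpen (γR g)) :=
    (isAffineOpen_top (Spec (CommRingCat.of R))).basicOpen (γR g)
  have hpre : f ⁻¹ᵁ ((Spec (CommRingCat.of R)).basicOpen (γR g)) =
      (Spec (CommRingCat.of S)).basicOpen (γS (F g)) := by
    rw [Scheme.preimage_basicOpen_top]
    have : f.appTop (γR g) = γS (F g) := hnat g
    rw [this]
  have hxU : x ∈ (Spec (CommRingCat.of R)).basicOpen (γR g) := by
    have e1 : (Spec (CommRingCat.of R)).basicOpen (γR g) = PrimeSpectrum.basicOpen g := by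
      rw [hγR]
      exact basicOpen_eq_of_affine (R := CommRingCat.of R) g
    rw [e1]
    exact hgx
  have hU' : IsAffineOpen (f ⁻¹ᵁ ((Spec (CommRingCat.of R)).basicOpen (γR g))) := by
    rw [hpre]
    exact (isAffineOpen_top (Spec (CommRingCat.of S))).basicOpen (γS (F g))
  refine ⟨⟨(Spec (CommRingCat.of R)).basicOpen (γR g), hU⟩, hxU, hU', n, ?_⟩
  change RT p n (f.app ((Spec (CommRingCat.of R)).basicOpen (γR g))).hom
  haveI loc1 : IsLocalization.Away (γR g) Γ(Spec (CommRingCat.of R),
      (Spec (CommRingCat.of R)).basicOpen (γR g)) :=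
    (isAffineOpen_top (Spec (CommRingCat.of R))).isLocalization_basicOpen (γR g)
  haveI loc2 : IsLocalization.Away (γS (F g)) Γ(Spec (CommRingCat.of S),
      (Spec (CommRingCat.of S)).basicOpen (γS (F g))) :=
    (isAffineOpen_top (Spec (CommRingCat.of S))).isLocalization_basicOpen (γS (F g))
  obtain ⟨θ1, hθ1⟩ : ∃ θ : Localization.Away g ≃+* Γ(Spec (CommRingCat.of R),
      (Spec (CommRingCat.of R)).basicOpen (γR g)),
      ∀ r : R, θ (algebraMap R (Localization.Away g) r) =
        algebraMap Γ(Spec (CommRingCat.of R), ⊤) Γ(Spec (CommRingCat.of R),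
          (Spec (CommRingCat.of R)).basicOpen (γR g)) (γR r) :=
    ⟨IsLocalization.ringEquivOfRingEquiv _ _ γR (Submonoid.map_powers γR g),
      fun r => IsLocalization.ringEquivOfRingEquiv_eq _ r⟩
  obtain ⟨θ2, hθ2⟩ : ∃ θ : Localization.Away (F g) ≃+* Γ(Spec (CommRingCat.of S),
      (Spec (CommRingCat.of S)).basicOpen (γS (F g))),
      ∀ s : S, θ (algebraMap S (Localization.Away (F g)) s) =
        algebraMap Γ(Spec (CommRingCat.of S), ⊤) Γ(Spec (CommRingCat.of S),
          (Spec (CommRingCat.of S)).basicOpen (γS (F g))) (γS s) :=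
    ⟨IsLocalization.ringEquivOfRingEquiv _ _ γS (Submonoid.map_powers γS (F g)),
      fun s => IsLocalization.ringEquivOfRingEquiv_eq _ s⟩
  obtain ⟨κ, hκ⟩ : ∃ κ : Γ(Spec (CommRingCat.of S),
        f ⁻¹ᵁ ((Spec (CommRingCat.of R)).basicOpen (γR g))) ≃+*
      Γ(Spec (CommRingCat.of S), (Spec (CommRingCat.of S)).basicOpen (γS (F g))),
      ∀ t, κ t = ((Spec (CommRingCat.of S)).presheaf.map (eqToHom hpre.symm).op).hom t :=
    ⟨((Spec (CommRingCat.of S)).presheaf.mapIso (eqToIso hpre.symm).op).commRingCatIsoToRingEquiv,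
      fun t => rfl⟩
  have hkey : κ.toRingHom.comp ((f.app ((Spec (CommRingCat.of R)).basicOpen (γR g))).hom.comp
      θ1.toRingHom) = θ2.toRingHom.comp (Localization.awayMap F g) := by
    apply IsLocalization.ringHom_ext (Submonoid.powers g)
    apply RingHom.ext
    intro r
    have e2 : Localization.awayMap F g (algebraMap R (Localization.Away g) r) =
        algebraMap S (Localization.Away (F g)) (F r) := by
      simp [Localization.awayMap, IsLocalization.Away.map]
    change κ ((f.app ((Spec (CommRingCat.of R)).basicOpen (γR g))).hom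
      (θ1 (algebraMap R (Localization.Away g) r))) =
      θ2 (Localization.awayMap F g (algebraMap R (Localization.Away g) r))
    rw [e2, hθ1, hθ2, ← hnat r]
    have nat := f.naturality (homOfLE (le_top :
      (Spec (CommRingCat.of R)).basicOpen (γR g) ≤ ⊤)).op
    have h1 := congr($(nat).hom (γR r))
    simp only [CommRingCat.hom_comp, RingHom.comp_apply] at h1
    change κ ((f.app ((Spec (CommRingCat.of R)).basicOpen (γR g))).hom
      (((Spec (CommRingCat.of R)).presheaf.map (homOfLE (le_top :
        (Spec (CommRingCat.of R)).basicOpen (γR g) ≤ ⊤)).op).hom (γR r))) = _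
    rw [h1, hκ]
    change (((Spec (CommRingCat.of S)).presheaf.map _ ≫
      (Spec (CommRingCat.of S)).presheaf.map _).hom (f.appTop.hom (γR r))) = _
    rw [← Functor.map_comp]
    rfl
  refine RT.of_equiv θ1 (θ2.trans κ.symm) ?_ hRT
  intro a
  have h2 := congr($hkey a)
  change κ.symm (θ2 (Localization.awayMap F g a)) =
    (f.app ((Spec (CommRingCat.of R)).basicOpen (γR g))).hom (θ1 a)
  rw [RingEquiv.symm_apply_eq]
  exact h2.symm


/-- (B) localized root towers are stable under cobase change. -/
theorem RT.awayMap_of_isPushout {p n : ℕ} {R S R' S' : Type u} [CommRing R] [CommRing S]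
    [CommRing R'] [CommRing S'] {F : R →+* S} {F' : R' →+* S'} (φ : R →+* R') (ψ : S →+* S')
    (h : IsPushout (CommRingCat.ofHom φ) (CommRingCat.ofHom F) (CommRingCat.ofHom F')
      (CommRingCat.ofHom ψ)) (g : R) (hRT : RT p n (Localization.awayMap F g)) :
    RT p n (Localization.awayMap F' (φ g)) := by
  have hw : ∀ a : R, F' (φ a) = ψ (F a) := fun a => congr($(h.w).hom a)
  have hu : IsUnit (((algebraMap S' (Localization.Away (F' (φ g)))).comp ψ) (F g)) := by
    rw [RingHom.comp_apply, ← hw g]
    exact IsLocalization.Away.algebraMap_isUnit _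
  obtain ⟨ψg, hψg⟩ : ∃ ψg : Localization.Away (F g) →+* Localization.Away (F' (φ g)),
      ∀ s : S, ψg (algebraMap S (Localization.Away (F g)) s) =
        algebraMap S' (Localization.Away (F' (φ g))) (ψ s) :=
    ⟨IsLocalization.Away.lift (F g) hu, fun s => IsLocalization.Away.lift_eq (F g) hu s⟩
  have sqL : IsPushout (CommRingCat.ofHom (algebraMap R (Localization.Away g)))
      (CommRingCat.ofHom F) (CommRingCat.ofHom (Localization.awayMap F g))
      (CommRingCat.ofHom (algebraMap S (Localization.Away (F g)))) :=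
    (CommRingCat.isPushout_of_isLocalization F (Localization.awayMap F g)
      (IsLocalization.map_comp _) (Submonoid.powers g)).flip
  have sqR : IsPushout (CommRingCat.ofHom (algebraMap R' (Localization.Away (φ g))))
      (CommRingCat.ofHom F') (CommRingCat.ofHom (Localization.awayMap F' (φ g)))
      (CommRingCat.ofHom (algebraMap S' (Localization.Away (F' (φ g))))) :=
    (CommRingCat.isPushout_of_isLocalization F' (Localization.awayMap F' (φ g))
      (IsLocalization.map_comp _) (Submonoid.powers (φ g))).flip
  have outer := h.paste_horiz sqR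
  have e1 : CommRingCat.ofHom φ ≫ CommRingCat.ofHom (algebraMap R' (Localization.Away (φ g))) =
      CommRingCat.ofHom (algebraMap R (Localization.Away g)) ≫
        CommRingCat.ofHom (Localization.awayMap φ g) := by
    ext a
    simp [Localization.awayMap, IsLocalization.Away.map]
  have e2 : CommRingCat.ofHom ψ ≫
      CommRingCat.ofHom (algebraMap S' (Localization.Away (F' (φ g)))) =
      CommRingCat.ofHom (algebraMap S (Localization.Away (F g))) ≫ CommRingCat.ofHom ψg := by
    ext s
    simp [hψg]
  rw [e1, e2] at outer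
  have comm : CommRingCat.ofHom (Localization.awayMap φ g) ≫
      CommRingCat.ofHom (Localization.awayMap F' (φ g)) =
      CommRingCat.ofHom (Localization.awayMap F g) ≫ CommRingCat.ofHom ψg := by
    apply CommRingCat.hom_ext
    apply IsLocalization.ringHom_ext (Submonoid.powers g)
    apply RingHom.ext
    intro a
    simp [Localization.awayMap, IsLocalization.Away.map, hψg, hw]
  exact RT.of_isPushout (Localization.awayMap φ g) ψg (outer.of_left comm sqL) hRT

/-- (C) the quotient of a ring map by an ideal and its extension is a pushout. -/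
theorem isPushout_quotientMap {R S : Type u} [CommRing R] [CommRing S] (F : R →+* S)
    (I : Ideal R) :
    IsPushout (CommRingCat.ofHom (Ideal.Quotient.mk I)) (CommRingCat.ofHom F)
      (CommRingCat.ofHom (Ideal.quotientMap (I.map F) F Ideal.le_comap_map))
      (CommRingCat.ofHom (Ideal.Quotient.mk (I.map F))) := by
  have w : CommRingCat.ofHom (Ideal.Quotient.mk I) ≫
      CommRingCat.ofHom (Ideal.quotientMap (I.map F) F Ideal.le_comap_map) =
      CommRingCat.ofHom F ≫ CommRingCat.ofHom (Ideal.Quotient.mk (I.map F)) := by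
    ext a
    simp
  have hker : ∀ (s : PushoutCocone (CommRingCat.ofHom (Ideal.Quotient.mk I))
      (CommRingCat.ofHom F)), ∀ a ∈ I.map F, s.inr.hom a = 0 := by
    intro s a ha
    have hle : I.map F ≤ RingHom.ker s.inr.hom := by
      rw [Ideal.map_le_iff_le_comap]
      intro b hb
      rw [Ideal.mem_comap, RingHom.mem_ker]
      have hc := s.condition
      have h1 := congr($(hc).hom b)
      have h2 : s.inr.hom (F b) = s.inl.hom (Ideal.Quotient.mk I b) := by
        simpa using h1.symm
      rw [h2, Ideal.Quotient.eq_zero_iff_mem.mpr hb, map_zero]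
    exact hle ha
  refine ⟨⟨w⟩, ⟨PushoutCocone.IsColimit.mk w
    (fun s => CommRingCat.ofHom (Ideal.Quotient.lift (I.map F) s.inr.hom (hker s)))
    (fun s => ?_) (fun s => ?_) (fun s m h1 h2 => ?_)⟩⟩
  · apply CommRingCat.hom_ext
    apply Ideal.Quotient.ringHom_ext
    apply RingHom.ext
    intro a
    have hc := s.condition
    have := congr($(hc).hom a)
    simpa using this.symm
  · ext a
    simp
  · apply CommRingCat.hom_ext
    apply Ideal.Quotient.ringHom_ext
    apply RingHom.ext
    intro a
    have := congr($(h2).hom a)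
    simpa using this

/-- (D) from the `p`-power endomorphism of `Q_g` to the localized Frobenius `Q_g → Q_{g^p}`. -/
theorem RT.awayMap_frobenius_of_powHom (p : ℕ) [hp : Fact p.Prime] {Q : Type u} [CommRing Q]
    [ExpChar Q p] (g : Q) (n : ℕ) (h0 : ((p : ℕ) : Localization.Away g) = 0)
    (hRT : RT p n (FrobSch.powHom p (Localization.Away g) h0)) :
    RT p n (Localization.awayMap (frobenius Q p) g) := by
  haveI : IsLocalization.Away g (Localization.Away (frobenius Q p g)) := by
    refine IsLocalization.of_le (M := Submonoid.powers (frobenius Q p g))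
      (S := Localization.Away (frobenius Q p g)) (Submonoid.powers g) ?_ ?_
    · rw [Submonoid.powers_le]
      exact ⟨p, (frobenius_def p g).symm⟩
    · rintro _ ⟨j, rfl⟩
      rw [map_pow]
      apply IsUnit.pow
      have hu : IsUnit (algebraMap Q (Localization.Away (frobenius Q p g)) (frobenius Q p g)) :=
        IsLocalization.Away.algebraMap_isUnit _
      rw [frobenius_def, map_pow] at hu
      exact (isUnit_pow_iff hp.out.ne_zero).mp hu
  obtain ⟨ε, hε⟩ : ∃ ε : Localization.Away g ≃+* Localization.Away (frobenius Q p g),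
      ∀ r : Q, ε (algebraMap Q (Localization.Away g) r) =
        algebraMap Q (Localization.Away (frobenius Q p g)) r :=
    ⟨(IsLocalization.algEquiv (Submonoid.powers g) (Localization.Away g)
      (Localization.Away (frobenius Q p g))).toRingEquiv, fun r => AlgEquiv.commutes _ r⟩
  have hcomp : ε.toRingHom.comp (FrobSch.powHom p (Localization.Away g) h0) =
      Localization.awayMap (frobenius Q p) g := by
    apply IsLocalization.ringHom_ext (Submonoid.powers g)
    apply RingHom.ext
    intro r
    have e2 : Localization.awayMap (frobenius Q p) g (algebraMap Q (Localization.Away g) r) =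
        algebraMap Q (Localization.Away (frobenius Q p g)) (frobenius Q p r) := by
      simp [Localization.awayMap, IsLocalization.Away.map]
    change ε ((algebraMap Q (Localization.Away g) r) ^ p) =
      Localization.awayMap (frobenius Q p) g (algebraMap Q (Localization.Away g) r)
    rw [e2, ← map_pow, hε, frobenius_def p r]
  refine RT.of_equiv (RingEquiv.refl _) ε ?_ hRT
  intro a
  exact congr($hcomp a)


/-- (E) Frobenius of a smooth algebra over a perfect field induces, modulo any ideal and its
extension, a faithfully flat extraction of `p`-th roots. -/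
theorem quotientMap_frobenius_faithfullyFlat_isPthRoot (p : ℕ) [hp : Fact p.Prime]
    (k : Type u) [Field k] [CharP k p] [PerfectRing k p] (Q : Type u) [CommRing Q] [Algebra k Q]
    [CharP Q p] [Algebra.Smooth k Q] (I : Ideal Q) :
    (Ideal.quotientMap (I.map (frobenius Q p)) (frobenius Q p) Ideal.le_comap_map).FaithfullyFlat ∧
      Quiet.IsPthRoot p (Spec.map (CommRingCat.ofHom
        (Ideal.quotientMap (I.map (frobenius Q p)) (frobenius Q p) Ideal.le_comap_map))) := by
  have sq := isPushout_quotientMap (frobenius Q p) I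
  constructor
  · have hst : (RingHom.toMorphismProperty
        (fun {R S : Type u} [CommRing R] [CommRing S] (f : R →+* S) =>
          f.FaithfullyFlat)).IsStableUnderCobaseChange := by
      rw [RingHom.isStableUnderCobaseChange_toMorphismProperty_iff]
      exact RingHom.FaithfullyFlat.isStableUnderBaseChange
    exact hst.of_isPushout sq (main15046 p k Q).1
  · apply isPthRoot_SpecMap_of_awayMap
    intro x
    obtain ⟨g, hgy, n, h0, hRT⟩ := exists_RT_powHom_of_smooth p k Q
      (PrimeSpectrum.comap (Ideal.Quotient.mk I) x)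
    refine ⟨Ideal.Quotient.mk I g, hgy, n, ?_⟩
    exact RT.awayMap_of_isPushout (Ideal.Quotient.mk I) (Ideal.Quotient.mk (I.map (frobenius Q p)))
      sq g (RT.awayMap_frobenius_of_powHom p g n h0 hRT)

open RingTheory.Sequence in
/-- a weakly regular sequence followed by a sequence regular modulo it. -/
theorem isRegular_append_of_quotient {Q : Type u} [CommRing Q] (L1 L2 : List Q)
    (h1 : IsWeaklyRegular Q L1)
    (h2 : IsRegular (Q ⧸ Ideal.ofList L1) (L2.map (Ideal.Quotient.mk (Ideal.ofList L1)))) :
    IsRegular Q (L1 ++ L2) := by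
  obtain ⟨I, hI⟩ : ∃ I : Ideal Q, I = Ideal.ofList L1 := ⟨_, rfl⟩
  rw [← hI] at h2
  have hsm : (Ideal.ofList L1 • ⊤ : Submodule Q Q) = I := by
    rw [hI]
    exact Ideal.mul_top _
  refine ⟨(isWeaklyRegular_append_iff Q L1 L2).mpr ⟨h1, ?_⟩, ?_⟩
  · have h3 : IsWeaklyRegular (Q ⧸ I) L2 :=
      (isWeaklyRegular_map_algebraMap_iff (Q ⧸ I) (Q ⧸ I) L2).mp h2.toIsWeaklyRegular
    exact ((Submodule.quotEquivOfEq I (Ideal.ofList L1 • ⊤ : Submodule Q Q)
      hsm.symm).isWeaklyRegular_congr L2).mp h3
  · intro htop
    apply h2.top_ne_smul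
    have e1 : (Ideal.ofList (L1 ++ L2) • ⊤ : Submodule Q Q) = I ⊔ Ideal.ofList L2 := by
      rw [Ideal.ofList_append, ← hI]
      exact Ideal.mul_top _
    rw [e1] at htop
    have e2 : (Ideal.ofList (L2.map (Ideal.Quotient.mk I)) • ⊤ :
        Submodule (Q ⧸ I) (Q ⧸ I)) = (Ideal.ofList L2).map (Ideal.Quotient.mk I) := by
      rw [Ideal.map_ofList]
      exact Ideal.mul_top _
    rw [e2]
    have e3 : (I ⊔ Ideal.ofList L2).map (Ideal.Quotient.mk I) = ⊤ := by
      rw [← htop]
      exact Ideal.map_top _
    rw [Ideal.map_sup, Ideal.map_quotient_self, bot_sup_eq] at e3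
    exact e3.symm

open RingTheory.Sequence MvPolynomial in
theorem isRegular_frobenius_list (p : ℕ) [hp : Fact p.Prime]
    (k : Type u) [Field k] [CharP k p] [PerfectRing k p] (A : Type u) [CommRing A] [Algebra k A]
    [CharP A p] [Algebra.Smooth k A] (n : ℕ) (t : Fin n → A)
    (ht : IsRegular A (List.ofFn t))
    (r m : ℕ) (v : Fin m → MvPolynomial (Fin r) A)
    (hv : IsRegular
      (MvPolynomial (Fin r) A ⧸ Ideal.span (Set.range fun i => (C (t i) : MvPolynomial (Fin r) A) ^ p))
      (List.ofFn fun j => Ideal.Quotient.mk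
        (Ideal.span (Set.range fun i => (C (t i) : MvPolynomial (Fin r) A) ^ p)) (v j))) :
    IsRegular (MvPolynomial (Fin r) A)
      (List.ofFn (fun i => (C (t i) : MvPolynomial (Fin r) A) ^ (p ^ 2)) ++
        List.ofFn (fun j => v j ^ p)) := by
  haveI : Algebra.Smooth A (MvPolynomial (Fin r) A) := {}
  haveI : Algebra.Smooth k (MvPolynomial (Fin r) A) :=
    Algebra.Smooth.comp k A (MvPolynomial (Fin r) A)
  obtain ⟨F, hF⟩ : ∃ F : MvPolynomial (Fin r) A →+* MvPolynomial (Fin r) A,
      F = frobenius (MvPolynomial (Fin r) A) p := ⟨_, rfl⟩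
  have hFF : F.FaithfullyFlat := by
    rw [hF]
    exact (main15046 p k (MvPolynomial (Fin r) A)).1
  have hL1 : IsWeaklyRegular (MvPolynomial (Fin r) A)
      (List.ofFn fun i => (C (t i) : MvPolynomial (Fin r) A) ^ p) := by
    obtain ⟨g1, hg1⟩ : ∃ g1 : A →+* MvPolynomial (Fin r) A,
        g1 = F.comp (C : A →+* MvPolynomial (Fin r) A) := ⟨_, rfl⟩
    have hC : (C : A →+* MvPolynomial (Fin r) A).Flat := by
      have h : (algebraMap A (MvPolynomial (Fin r) A)).Flat :=
        RingHom.flat_algebraMap_iff.mpr inferInstance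
      rwa [MvPolynomial.algebraMap_eq] at h
    have hflat : g1.Flat := by
      rw [hg1]
      exact RingHom.Flat.comp hC hFF.flat
    have h := @IsWeaklyRegular.of_flat A (MvPolynomial (Fin r) A) _ _ g1.toAlgebra hflat
      (List.ofFn t) ht.toIsWeaklyRegular
    have e : (List.ofFn t).map (@algebraMap A (MvPolynomial (Fin r) A) _ _ g1.toAlgebra) =
        List.ofFn fun i => (C (t i) : MvPolynomial (Fin r) A) ^ p := by
      rw [List.map_ofFn]
      congr 1
      funext i
      change g1 (t i) = _
      rw [hg1, hF]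
      exact frobenius_def p _
    rw [e] at h
    exact h
  have hL : IsRegular (MvPolynomial (Fin r) A)
      ((List.ofFn fun i => (C (t i) : MvPolynomial (Fin r) A) ^ p) ++ List.ofFn v) := by
    apply isRegular_append_of_quotient _ _ hL1
    have hI : Ideal.ofList (List.ofFn fun i => (C (t i) : MvPolynomial (Fin r) A) ^ p) =
        Ideal.span (Set.range fun i => (C (t i) : MvPolynomial (Fin r) A) ^ p) := by
      have hs : {a | a ∈ List.ofFn fun i => (C (t i) : MvPolynomial (Fin r) A) ^ p} =
          Set.range fun i => (C (t i) : MvPolynomial (Fin r) A) ^ p := by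
        ext a
        simp [List.mem_ofFn]
      exact congrArg Ideal.span hs
    rw [hI, List.map_ofFn]
    exact hv
  have hfin := @IsRegular.of_faithfullyFlat (MvPolynomial (Fin r) A) (MvPolynomial (Fin r) A)
    _ _ F.toAlgebra hFF _ hL
  have e : ((List.ofFn fun i => (C (t i) : MvPolynomial (Fin r) A) ^ p) ++ List.ofFn v).map
      (@algebraMap (MvPolynomial (Fin r) A) (MvPolynomial (Fin r) A) _ _ F.toAlgebra) =
      List.ofFn (fun i => (C (t i) : MvPolynomial (Fin r) A) ^ (p ^ 2)) ++
        List.ofFn (fun j => v j ^ p) := by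
    rw [List.map_append, List.map_ofFn, List.map_ofFn]
    congr 1
    · congr 1
      funext i
      change F (C (t i) ^ p) = _
      rw [hF, frobenius_def, ← pow_mul, pow_two]
    · congr 1
      funext j
      change F (v j) = _
      rw [hF, frobenius_def]
  rw [e] at hfin
  exact hfin

open RingTheory.Sequence MvPolynomial in
theorem main19480 (p : ℕ) [hp : Fact p.Prime]
    (k : Type u) [Field k] [CharP k p] [PerfectRing k p] (A : Type u) [CommRing A] [Algebra k A]
    [CharP A p] [Algebra.Smooth k A] (n : ℕ) (t : Fin n → A)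
    (ht : IsRegular A (List.ofFn t))
    (r m : ℕ) (v : Fin m → MvPolynomial (Fin r) A)
    (hv : IsRegular
      (MvPolynomial (Fin r) A ⧸ Ideal.span (Set.range fun i => (C (t i) : MvPolynomial (Fin r) A) ^ p))
      (List.ofFn fun j => Ideal.Quotient.mk
        (Ideal.span (Set.range fun i => (C (t i) : MvPolynomial (Fin r) A) ^ p)) (v j))) :
    IsRegular (MvPolynomial (Fin r) A)
        (List.ofFn (fun i => (C (t i) : MvPolynomial (Fin r) A) ^ (p ^ 2)) ++
          List.ofFn (fun j => v j ^ p)) ∧
      (Ideal.quotientMap ((Ideal.span (Set.range (fun i => (C (t i) : MvPolynomial (Fin r) A) ^ p) ∪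
        Set.range v)).map (frobenius (MvPolynomial (Fin r) A) p))
        (frobenius (MvPolynomial (Fin r) A) p) Ideal.le_comap_map).FaithfullyFlat ∧
      Quiet.IsPthRoot p (Spec.map (CommRingCat.ofHom (Ideal.quotientMap
        ((Ideal.span (Set.range (fun i => (C (t i) : MvPolynomial (Fin r) A) ^ p) ∪
          Set.range v)).map (frobenius (MvPolynomial (Fin r) A) p))
        (frobenius (MvPolynomial (Fin r) A) p) Ideal.le_comap_map))) := by
  haveI : Algebra.Smooth A (MvPolynomial (Fin r) A) := {}
  haveI : Algebra.Smooth k (MvPolynomial (Fin r) A) :=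
    Algebra.Smooth.comp k A (MvPolynomial (Fin r) A)
  exact ⟨isRegular_frobenius_list p k A n t ht r m v hv,
    quotientMap_frobenius_faithfullyFlat_isPthRoot p k (MvPolynomial (Fin r) A) _⟩

end Groth.Agent.Helper2.QuietLib
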