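import Mathlib
import Groth.Prelude.Def_Frob
import Groth.Prelude.Def_W4c2gaugesfzipsQuiet
import Groth.Agent.Lib.Helper2.Quiet.Tower

set_option autoImplicit false
set_option backward.isDefEq.respectTransparency.types false
set_option synthInstance.maxHeartbeats 400000
set_option maxHeartbeats 4000000
set_option linter.style.haveILetI false
set_option linter.unusedSectionVars false
set_option linter.unusedVariables false
set_option linter.unusedSimpArgs false
set_option linter.unnecessarySimpa false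

/-! helper2: extractions of `p`-th roots are stable under base change; quasi-etale morphisms are
stable under base change. -/

open CategoryTheory CategoryTheory.Limits AlgebraicGeometry Opposite TensorProduct

universe u

namespace Groth.Agent.Helper2.QuietLib

/-- the tower over an affine open `US` with affine preimage restricts (by pushout) to any
affine open `UT` of a base change mapping into `US`. -/
theorem RT_app_of_isPullback (p n : ℕ) {V Y₁ T P : Scheme.{u}} (r : V ⟶ Y₁) (h : T ⟶ Y₁)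
    (g : P ⟶ V) (r' : P ⟶ T) (H : IsPullback g r' r h)
    (US : Y₁.Opens) (hUS : IsAffineOpen US) (hpre : IsAffineOpen (r ⁻¹ᵁ US))
    (hRT : RT p n (r.app US).hom) (UT : T.Opens) (hUT : IsAffineOpen UT) (hle : UT ≤ h ⁻¹ᵁ US) :
    IsAffineOpen (r' ⁻¹ᵁ UT) ∧ RT p n (r'.app UT).hom := by
  have hUY : r' ⁻¹ᵁ UT = g ⁻¹ᵁ (r ⁻¹ᵁ US) ⊓ r' ⁻¹ᵁ UT := by
    refine (inf_eq_right.mpr ?_).symm
    intro z hz
    change r (g z) ∈ US
    have h1 : r (g z) = h (r' z) := by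
      rw [← Scheme.Hom.comp_apply, ← Scheme.Hom.comp_apply, H.w]
    rw [h1]
    exact hle hz
  have hUSX : r ⁻¹ᵁ US ≤ r ⁻¹ᵁ US := le_rfl
  have hiso : IsIso (pushoutSection H hle hUSX hUY) :=
    isIso_pushoutSection_of_isAffineOpen H hle hUSX hUY hUS hUT hpre
  have hpo := (isIso_pushoutSection_iff H hle hUSX hUY).mp hiso
  have haff : IsAffineOpen (r' ⁻¹ᵁ UT) := by
    haveI : IsAffine (US : Scheme.{u}) := hUS
    haveI : IsAffine (UT : Scheme.{u}) := hUT
    haveI : IsAffine ((r ⁻¹ᵁ US : V.Opens) : Scheme.{u}) := hpre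
    exact .of_isIso (Scheme.Hom.isPullback_resLE H hle hUSX hUY).isoPullback.hom
  refine ⟨haff, ?_⟩
  have h1 : r.appLE US (r ⁻¹ᵁ US) hUSX = r.app US := Scheme.Hom.appLE_eq_app r (U := US)
  have h2 : r'.appLE UT (r' ⁻¹ᵁ UT) le_rfl = r'.app UT := Scheme.Hom.appLE_eq_app r' (U := UT)
  have hRT' : RT p n (r.appLE US (r ⁻¹ᵁ US) hUSX).hom := by rw [h1]; exact hRT
  have key := RT.of_isPushout (h.appLE US UT hle).hom
    (g.appLE (r ⁻¹ᵁ US) (r' ⁻¹ᵁ UT) (by rw [hUY]; exact inf_le_left)).hom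
    (f' := (r'.appLE UT (r' ⁻¹ᵁ UT) le_rfl).hom) hpo.flip hRT'
  rw [h2] at key
  exact key

/-- (P1) extractions of `p`-th roots are stable under base change. -/
theorem isPthRoot_of_isPullback (p : ℕ) {V Y₁ T P : Scheme.{u}} (r : V ⟶ Y₁) (h : T ⟶ Y₁)
    (g : P ⟶ V) (r' : P ⟶ T) (H : IsPullback g r' r h) (hr : Quiet.IsPthRoot p r) :
    Quiet.IsPthRoot p r' := by
  intro t
  obtain ⟨⟨US, hUS⟩, hmem, hpre, n, hRT⟩ := hr (h t)
  obtain ⟨UT, hUT, htUT, hle⟩ : ∃ UT : T.Opens, IsAffineOpen UT ∧ t ∈ UT ∧ UT ≤ h ⁻¹ᵁ US := by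
    obtain ⟨U, hU, hxU, e⟩ := TopologicalSpace.Opens.isBasis_iff_nbhd.mp T.isBasis_affineOpens
      (show t ∈ h ⁻¹ᵁ US from hmem)
    exact ⟨U, hU, hxU, e⟩
  obtain ⟨haff, hRT'⟩ := RT_app_of_isPullback p n r h g r' H US hUS hpre hRT UT hUT hle
  exact ⟨⟨UT, hUT⟩, htUT, haff, n, hRT'⟩

/-- quasi-etale morphisms are stable under base change. -/
theorem isQuiet_of_isPullback (p : ℕ) {X Y X' Y' : Scheme.{u}}
    (f : Y ⟶ X) (g : X' ⟶ X) (f' : Y' ⟶ X') (g' : Y' ⟶ Y) (H : IsPullback g' f' f g)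
    (hf : Quiet.IsQuiet p f) : Quiet.IsQuiet p f' := by
  intro y'
  obtain ⟨V, Y₁, r, e, hyV, hr, he, hfac⟩ := hf (g' y')
  haveI : Etale e := he
  have w : ((g' ∣_ V) ≫ r) ≫ e = ((g' ⁻¹ᵁ V).ι ≫ f') ≫ g := by
    rw [Category.assoc, hfac, morphismRestrict_ι_assoc, Category.assoc, H.w]
  refine ⟨g' ⁻¹ᵁ V, pullback e g, pullback.lift ((g' ∣_ V) ≫ r) ((g' ⁻¹ᵁ V).ι ≫ f') w,
    pullback.snd e g, hyV, ?_, inferInstance, pullback.lift_snd _ _ _⟩
  have big : IsPullback (g' ∣_ V) ((g' ⁻¹ᵁ V).ι ≫ f') (V.ι ≫ f) g :=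
    (isPullback_morphismRestrict g' V).paste_vert H
  have e1 : (g' ⁻¹ᵁ V).ι ≫ f' =
      pullback.lift ((g' ∣_ V) ≫ r) ((g' ⁻¹ᵁ V).ι ≫ f') w ≫ pullback.snd e g :=
    (pullback.lift_snd _ _ _).symm
  rw [← hfac, e1] at big
  have sq := IsPullback.of_bot big (pullback.lift_fst _ _ _).symm
    (IsPullback.of_hasPullback e g)
  exact isPthRoot_of_isPullback p r (pullback.fst e g) (g' ∣_ V) _ sq hr

end Groth.Agent.Helper2.QuietLib
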