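import Mathlib
import Groth.Prelude.Def_FrobAlg
import Groth.Prelude.Def_Frob
import Groth.Prelude.Def_W4c2gaugesfzipsQuiet
import Groth.Agent.Lib.Helper2.Quiet.FrobTower

set_option autoImplicit false
set_option backward.isDefEq.respectTransparency.types false
set_option synthInstance.maxHeartbeats 400000
set_option maxHeartbeats 4000000
set_option linter.style.haveILetI false
set_option linter.unusedSectionVars false
set_option linter.unusedVariables false
set_option linter.unusedSimpArgs false
set_option linter.unnecessarySimpa false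

/-! helper2: ring-level facts on root towers in characteristic `p`: the Frobenius retraction,
and the exchange of an etale map over a root tower for a root tower over an etale map. -/

open Polynomial CategoryTheory CategoryTheory.Limits TensorProduct

universe u

namespace Groth.Agent.Helper2.QuietLib

section Retraction

variable (p : ℕ) [hp : Fact p.Prime]

/-- the retraction `A[x]/(x^p - a) → A` of the elementary extraction up to Frobenius. -/
theorem exists_retraction_one {A : Type u} [CommRing A] (hpA : ((p : ℕ) : A) = 0) (a₀ : A) :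
    ∃ φ : Quiet.RootRing p A a₀ →+* A,
      (∀ a : A, φ (AdjoinRoot.of (X ^ p - C a₀ : A[X]) a) = a ^ p) ∧
      (∀ c : Quiet.RootRing p A a₀, AdjoinRoot.of (X ^ p - C a₀ : A[X]) (φ c) = c ^ p) := by
  have h0 : (X ^ p - C a₀ : A[X]).eval₂ (FrobSch.powHom p A hpA) a₀ = 0 := by
    rw [eval₂_sub, eval₂_pow, eval₂_X, eval₂_C, FrobSch.powHom_apply, sub_self]
  obtain ⟨φ, hφ⟩ : ∃ φ : Quiet.RootRing p A a₀ →+* A,
      φ = AdjoinRoot.lift (FrobSch.powHom p A hpA) a₀ h0 := ⟨_, rfl⟩
  have hpA₁ : ((p : ℕ) : Quiet.RootRing p A a₀) = 0 := by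
    have := congrArg (AdjoinRoot.of (X ^ p - C a₀ : A[X])) hpA
    rwa [map_natCast, map_zero] at this
  refine ⟨φ, ?_, ?_⟩
  · intro a
    rw [hφ, AdjoinRoot.lift_of, FrobSch.powHom_apply]
  · have key : (AdjoinRoot.of (X ^ p - C a₀ : A[X])).comp φ =
        FrobSch.powHom p (Quiet.RootRing p A a₀) hpA₁ := by
      apply AdjoinRoot.ringHom_ext
      · apply RingHom.ext
        intro a
        change AdjoinRoot.of (X ^ p - C a₀ : A[X]) (φ (AdjoinRoot.of (X ^ p - C a₀ : A[X]) a)) =
          (AdjoinRoot.of (X ^ p - C a₀ : A[X]) a) ^ p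
        rw [hφ, AdjoinRoot.lift_of, FrobSch.powHom_apply, map_pow]
      · change AdjoinRoot.of (X ^ p - C a₀ : A[X]) (φ (AdjoinRoot.root (X ^ p - C a₀ : A[X]))) =
          (AdjoinRoot.root (X ^ p - C a₀ : A[X])) ^ p
        rw [hφ, AdjoinRoot.lift_root]
        have hr := AdjoinRoot.eval₂_root (X ^ p - C a₀ : A[X])
        rw [eval₂_sub, eval₂_pow, eval₂_X, eval₂_C, sub_eq_zero] at hr
        exact hr.symm
    intro c
    exact congr($key c)

/-- the retraction `B → A` of a root tower up to the `n`-fold Frobenius. -/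
theorem exists_retraction (n : ℕ) : ∀ {A B : Type u} [CommRing A] [CommRing B]
    (hpA : ((p : ℕ) : A) = 0) (α : A →+* B) (hα : RT p n α),
    ∃ φ : B →+* A, (∀ a : A, φ (α a) = a ^ (p ^ n)) ∧ (∀ b : B, α (φ b) = b ^ (p ^ n)) := by
  induction n with
  | zero =>
    intro A B _ _ hpA α hα
    letI := α.toAlgebra
    obtain ⟨e⟩ : Nonempty (B ≃ₐ[A] A) := hα
    refine ⟨(e : B →+* A), ?_, ?_⟩
    · intro a
      change e (algebraMap A B a) = _
      rw [AlgEquiv.commutes, pow_zero, pow_one]
      rfl
    · intro b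
      change algebraMap A B (e b) = _
      rw [pow_zero, pow_one]
      have : e (algebraMap A B (e b)) = e b := by
        rw [AlgEquiv.commutes]
        rfl
      exact e.injective this
  | succ n ih =>
    intro A B _ _ hpA α hα
    letI := α.toAlgebra
    obtain ⟨a₀, alg, htow, hRT'⟩ : ∃ (a : A) (_ : Algebra (Quiet.RootRing p A a) B),
      IsScalarTower A (Quiet.RootRing p A a) B ∧ Quiet.IsRootTower p n (Quiet.RootRing p A a) B := hα
    have hpA₁ : ((p : ℕ) : Quiet.RootRing p A a₀) = 0 := by
      have := congrArg (AdjoinRoot.of (X ^ p - C a₀ : A[X])) hpA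
      rwa [map_natCast, map_zero] at this
    obtain ⟨φ', h1', h2'⟩ := ih hpA₁ (algebraMap (Quiet.RootRing p A a₀) B)
      (RT.of_isRootTower hRT')
    obtain ⟨φ₁, h1, h2⟩ := exists_retraction_one p hpA a₀
    have hα' : ∀ a : A, α a = algebraMap (Quiet.RootRing p A a₀) B
        (AdjoinRoot.of (X ^ p - C a₀ : A[X]) a) := by
      intro a
      exact IsScalarTower.algebraMap_apply A (Quiet.RootRing p A a₀) B a
    refine ⟨φ₁.comp φ', ?_, ?_⟩
    · intro a
      rw [RingHom.comp_apply, hα', h1', ← map_pow, h1, ← pow_mul, pow_succ]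
    · intro b
      rw [RingHom.comp_apply, hα', h2, map_pow, h2', ← pow_mul, pow_succ]

end Retraction


section Away

/-- root towers localize. -/
theorem RT.awayMap {p n : ℕ} {R S : Type u} [CommRing R] [CommRing S] {F : R →+* S}
    (hRT : RT p n F) (g : R) : RT p n (Localization.awayMap F g) := by
  have sqL : IsPushout (CommRingCat.ofHom (algebraMap R (Localization.Away g)))
      (CommRingCat.ofHom F) (CommRingCat.ofHom (Localization.awayMap F g))
      (CommRingCat.ofHom (algebraMap S (Localization.Away (F g)))) :=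
    (CommRingCat.isPushout_of_isLocalization F (Localization.awayMap F g)
      (IsLocalization.map_comp _) (Submonoid.powers g)).flip
  exact RT.of_isPushout _ _ sqL hRT

end Away

section Swap

variable (p : ℕ) [hp : Fact p.Prime]

/-- exchange of an etale algebra over an elementary extraction. -/
theorem exists_etale_swap_one {A : Type u} [CommRing A] (hpA : ((p : ℕ) : A) = 0) (a₀ : A)
    {C₁ : Type u} [CommRing C₁] (β : Quiet.RootRing p A a₀ →+* C₁) (hβ : β.Etale) :
    ∃ (W : Type u) (_ : CommRing W) (e' : A →+* W) (j : W →+* C₁),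
      e'.Etale ∧ RT p 1 j ∧ j.comp e' = β.comp (AdjoinRoot.of (X ^ p - C a₀ : A[X])) := by
  obtain ⟨φ₁, h1, h2⟩ := exists_retraction_one p hpA a₀
  have hpC : ((p : ℕ) : C₁) = 0 := by
    have := congrArg (β.comp (AdjoinRoot.of (X ^ p - C a₀ : A[X]))) hpA
    rwa [map_natCast, map_zero] at this
  -- the pushout of `φ₁` and `β`
  obtain ⟨Wc, inl, inr, hpo⟩ : ∃ (Wc : CommRingCat.{u}) (inl : CommRingCat.of A ⟶ Wc)
      (inr : CommRingCat.of C₁ ⟶ Wc),
      IsPushout (CommRingCat.ofHom φ₁) (CommRingCat.ofHom β) inl inr :=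
    ⟨_, _, _, IsPushout.of_hasPushout (CommRingCat.ofHom φ₁) (CommRingCat.ofHom β)⟩
  have hw : ∀ c : Quiet.RootRing p A a₀, inl.hom (φ₁ c) = inr.hom (β c) :=
    fun c => congr($(hpo.w).hom c)
  -- `inl` is etale
  have hst : (RingHom.toMorphismProperty
      (fun {R S : Type u} [CommRing R] [CommRing S] (f : R →+* S) =>
        f.Etale)).IsStableUnderCobaseChange := by
    rw [RingHom.isStableUnderCobaseChange_toMorphismProperty_iff]
    exact RingHom.Etale.isStableUnderBaseChange
  have hinl : inl.hom.Etale := hst.of_isPushout hpo hβ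
  -- the map `W → C₁`
  have hdw : CommRingCat.ofHom φ₁ ≫
      CommRingCat.ofHom (β.comp (AdjoinRoot.of (X ^ p - C a₀ : A[X]))) =
      CommRingCat.ofHom β ≫ CommRingCat.ofHom (FrobSch.powHom p C₁ hpC) := by
    apply CommRingCat.hom_ext
    apply RingHom.ext
    intro c
    change β (AdjoinRoot.of (X ^ p - C a₀ : A[X]) (φ₁ c)) = (β c) ^ p
    rw [h2, map_pow]
  obtain ⟨d, hd1, hd2⟩ : ∃ d : Wc ⟶ CommRingCat.of C₁,
      inl ≫ d = CommRingCat.ofHom (β.comp (AdjoinRoot.of (X ^ p - C a₀ : A[X]))) ∧
      inr ≫ d = CommRingCat.ofHom (FrobSch.powHom p C₁ hpC) :=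
    ⟨hpo.desc _ _ hdw, hpo.inl_desc _ _ _, hpo.inr_desc _ _ _⟩
  have hd1' : ∀ a : A, d.hom (inl.hom a) = β (AdjoinRoot.of (X ^ p - C a₀ : A[X]) a) :=
    fun a => congr($(hd1).hom a)
  have hd2' : ∀ c : C₁, d.hom (inr.hom c) = c ^ p := fun c => congr($(hd2).hom c)
  have hpW : ((p : ℕ) : Wc) = 0 := by
    have := congrArg inl.hom hpA
    rwa [map_natCast, map_zero] at this
  have hh : ∀ w : Wc, inr.hom (d.hom w) = w ^ p := by
    have : d ≫ inr = CommRingCat.ofHom (FrobSch.powHom p Wc hpW) := by
      apply hpo.hom_ext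
      · ext a
        change inr.hom (d.hom (inl.hom a)) = (inl.hom a) ^ p
        rw [hd1', ← hw, h1, map_pow]
      · ext c
        change inr.hom (d.hom (inr.hom c)) = (inr.hom c) ^ p
        rw [hd2', map_pow]
    intro w
    exact congr($(this).hom w)
  refine ⟨Wc, inferInstance, inl.hom, d.hom, hinl, ?_, ?_⟩
  · letI iVP : Algebra A (Quiet.RootRing p A a₀) := inferInstance
    letI iVW : Algebra A Wc := inl.hom.toAlgebra
    letI iPB : Algebra (Quiet.RootRing p A a₀) C₁ := β.toAlgebra
    letI iWB : Algebra Wc C₁ := d.hom.toAlgebra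
    haveI : Algebra.Etale A Wc := hinl
    haveI : Algebra.Etale (Quiet.RootRing p A a₀) C₁ := hβ
    have key := RT.algebraMap_of_frobSquare (V := A) (P' := Quiet.RootRing p A a₀) (W := Wc)
      (B := C₁) p (fun v => hd1' v) hpA inr.hom hh hd2' (fun x => φ₁ x)
      (fun x => (hw x).symm) (fun x => h2 x) 1 (RT.adjoinRoot p a₀)
    exact key
  · apply RingHom.ext
    intro a
    exact hd1' a

/-- exchange of an etale algebra over a root tower: it is a root tower over an etale algebra. -/
theorem exists_etale_swap (n : ℕ) : ∀ {A B D : Type u} [CommRing A] [CommRing B] [CommRing D]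
    (hpA : ((p : ℕ) : A) = 0) (α : A →+* B) (hα : RT p n α) (β : B →+* D) (hβ : β.Etale),
    ∃ (W : Type u) (_ : CommRing W) (e' : A →+* W) (j : W →+* D),
      e'.Etale ∧ RT p n j ∧ j.comp e' = β.comp α := by
  induction n with
  | zero =>
    intro A B D _ _ _ hpA α hα β hβ
    have hbij : Function.Bijective α := by
      letI := α.toAlgebra
      obtain ⟨e⟩ : Nonempty (B ≃ₐ[A] A) := hα
      have : (⇑α : A → B) = ⇑e.symm := by
        funext a
        change algebraMap A B a = e.symm a
        rw [← AlgEquiv.commutes e.symm a]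
        rfl
      rw [this]
      exact e.symm.bijective
    refine ⟨D, inferInstance, β.comp α, RingHom.id D, ?_, RT.of_bijective Function.bijective_id, ?_⟩
    · exact RingHom.Etale.stableUnderComposition α β (RingHom.Etale.of_bijective hbij) hβ
    · rfl
  | succ n ih =>
    intro A B D _ _ _ hpA α hα β hβ
    letI := α.toAlgebra
    obtain ⟨a₀, alg, htow, hRT'⟩ : ∃ (a : A) (_ : Algebra (Quiet.RootRing p A a) B),
      IsScalarTower A (Quiet.RootRing p A a) B ∧ Quiet.IsRootTower p n (Quiet.RootRing p A a) B := hα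
    have hpA₁ : ((p : ℕ) : Quiet.RootRing p A a₀) = 0 := by
      have := congrArg (AdjoinRoot.of (X ^ p - C a₀ : A[X])) hpA
      rwa [map_natCast, map_zero] at this
    obtain ⟨W₁, _, e₁, j₁, he₁, hj₁, hc₁⟩ := ih hpA₁ (algebraMap (Quiet.RootRing p A a₀) B)
      (RT.of_isRootTower hRT') β hβ
    obtain ⟨W, _, e', j₀, he', hj₀, hc₀⟩ := exists_etale_swap_one p hpA a₀ e₁ he₁
    have hα' : ∀ a : A, α a = algebraMap (Quiet.RootRing p A a₀) B
        (AdjoinRoot.of (X ^ p - C a₀ : A[X]) a) := by
      intro a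
      exact IsScalarTower.algebraMap_apply A (Quiet.RootRing p A a₀) B a
    refine ⟨W, inferInstance, e', j₁.comp j₀, he', ?_, ?_⟩
    · have := RT.comp hj₀ hj₁
      rw [Nat.add_comm] at this
      exact this
    · apply RingHom.ext
      intro a
      have e1 := congr($hc₀ a)
      have e2 := congr($hc₁ (AdjoinRoot.of (X ^ p - C a₀ : A[X]) a))
      simp only [RingHom.comp_apply] at e1 e2 ⊢
      rw [e1, e2, hα']

end Swap

end Groth.Agent.Helper2.QuietLib
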