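import Mathlib
import Groth.Prelude.Def_Frob
import Groth.Prelude.Def_Flat
import Groth.Prelude.Def_W4c2gaugesfzipsQuiet
import Groth.Agent.Lib.Helper2.Quiet.Swap
import Groth.Agent.Lib.Helper2.Quiet.RootBC
import Groth.Agent.Lib.Helper7.FPCrit
import Groth.Agent.Lib.Helper7.FrobUH

set_option autoImplicit false
set_option backward.isDefEq.respectTransparency.types false
set_option synthInstance.maxHeartbeats 400000
set_option maxHeartbeats 4000000
set_option linter.style.haveILetI false
set_option linter.unusedSectionVars false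
set_option linter.unusedVariables false
set_option linter.unusedSimpArgs false
set_option linter.unnecessarySimpa false

/-! helper2: extractions of `p`-th roots in characteristic `p` are homeomorphisms; they compose. -/

open CategoryTheory CategoryTheory.Limits AlgebraicGeometry Opposite TensorProduct

universe u

namespace Groth.Agent.Helper2.QuietLib

open Polynomial in
theorem isUnivHomeo_SpecMap_of_RT (p : ℕ) [hp : Fact p.Prime] (n : ℕ) {A B : Type u} [CommRing A]
    [CommRing B] (hpA : ((p : ℕ) : A) = 0) (α : A →+* B) (hα : RT p n α) :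
    FlatMor.IsUnivHomeo (Spec.map (CommRingCat.ofHom α)) := by
  obtain ⟨φ, h1, h2⟩ := exists_retraction p n hpA α hα
  rw [Groth.Agent.Helper7.FPColim.uh_iff_crit]
  refine ⟨⟨?_, ?_⟩, ?_⟩
  · intro b
    refine ⟨X ^ (p ^ n) - C (φ b), monic_X_pow_sub_C _ (pow_ne_zero n hp.out.ne_zero), ?_⟩
    rw [eval₂_sub, eval₂_pow, eval₂_X, eval₂_C, h2, sub_self]
  · intro K _ ψ ψ' hψ
    have hK : ((p : ℕ) : K) = 0 := by
      have := congrArg (ψ.comp α) hpA
      rwa [map_natCast, map_zero] at this
    haveI : CharP K p := (CharP.charP_iff_prime_eq_zero hp.out).2 hK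
    apply RingHom.ext
    intro b
    apply iterateFrobenius_inj K p n
    rw [iterateFrobenius_def, iterateFrobenius_def, ← map_pow, ← map_pow, ← h2]
    exact congr($hψ (φ b))
  · intro a ha
    rw [RingHom.mem_ker] at ha
    rw [mem_nilradical]
    refine ⟨p ^ n, ?_⟩
    rw [← h1, ha, map_zero]

theorem isUnivHomeo_of_isPthRoot (p : ℕ) [hp : Fact p.Prime] {Q R : Scheme.{u}}
    [FrobSch.IsCharP R p] (b : Q ⟶ R) (hb : Quiet.IsPthRoot p b) : FlatMor.IsUnivHomeo b := by
  choose U hxU hpre n hRT using hb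
  have hsup : (⨆ x : R, (U x).1) = ⊤ := by
    rw [eq_top_iff]
    intro x _
    exact TopologicalSpace.Opens.mem_iSup.mpr ⟨x, hxU x⟩
  rw [IsZariskiLocalAtTarget.iff_of_iSup_eq_top (P := FlatMor.IsUnivHomeo) _ hsup]
  intro x
  have huh : FlatMor.IsUnivHomeo (Spec.map (b.app (U x).1)) :=
    isUnivHomeo_SpecMap_of_RT p (n x) (FrobSch.natCast_eq_zero_app R p (U x).1)
      (b.app (U x).1).hom (hRT x)
  have hpb : IsPullback (Spec.map (b.app (U x).1) ≫ (U x).2.isoSpec.inv) (hpre x).fromSpec
      (U x).1.ι b := by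
    apply IsOpenImmersion.isPullback
    · rw [Scheme.Hom.app_eq_appLE, Category.assoc]
      exact (IsAffineOpen.SpecMap_appLE_fromSpec b (U x).2 (hpre x) le_rfl).symm
    · rw [Scheme.Opens.opensRange_ι, IsAffineOpen.opensRange_fromSpec]
  have hq := isPullback_morphismRestrict b (U x).1
  have e : (b ∣_ (U x).1) = (hq.isoIsPullback _ _ hpb).hom ≫
      (Spec.map (b.app (U x).1) ≫ (U x).2.isoSpec.inv) :=
    (IsPullback.isoIsPullback_hom_fst _ _ hq hpb).symm
  rw [e, MorphismProperty.cancel_left_of_respectsIso (P := FlatMor.IsUnivHomeo),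
    MorphismProperty.cancel_right_of_respectsIso (P := FlatMor.IsUnivHomeo)]
  exact huh

theorem isHomeomorph_of_isPthRoot (p : ℕ) [hp : Fact p.Prime] {Q R : Scheme.{u}}
    [FrobSch.IsCharP R p] (b : Q ⟶ R) (hb : Quiet.IsPthRoot p b) : IsHomeomorph b :=
  MorphismProperty.universally_le _ _ (isUnivHomeo_of_isPthRoot p b hb)

end Groth.Agent.Helper2.QuietLib
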