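import Mathlib
import Groth.Prelude.Def_Frob
import Groth.Prelude.Def_Flat
import Groth.Prelude.Def_W4c2gaugesfzipsQuiet
import Groth.Agent.Lib.Helper2.Quiet.FrobQuot
import Groth.Agent.Lib.Helper2.Quiet.RootUH

set_option autoImplicit false
set_option backward.isDefEq.respectTransparency.types false
set_option synthInstance.maxHeartbeats 400000
set_option maxHeartbeats 4000000
set_option linter.style.haveILetI false
set_option linter.unusedSectionVars false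
set_option linter.unusedVariables false
set_option linter.unusedSimpArgs false
set_option linter.unnecessarySimpa false

/-! helper2: composition of quasi-etale morphisms. -/

open CategoryTheory CategoryTheory.Limits AlgebraicGeometry Opposite TensorProduct

universe u

namespace Groth.Agent.Helper2.QuietLib

/-- the spectrum of a root tower is an extraction of `p`-th roots. -/
theorem isPthRoot_SpecMap_of_RT (p n : ℕ) {R S : Type u} [CommRing R] [CommRing S]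
    (F : R →+* S) (hF : RT p n F) : Quiet.IsPthRoot p (Spec.map (CommRingCat.ofHom F)) :=
  isPthRoot_SpecMap_of_awayMap p F (fun x =>
    ⟨1, fun h => x.isPrime.ne_top ((Ideal.eq_top_iff_one _).mpr h), n, hF.awayMap 1⟩)

theorem isPthRoot_iso_comp (p : ℕ) {P Q R : Scheme.{u}} (i : P ⟶ Q) [IsIso i] (r : Q ⟶ R)
    (hr : Quiet.IsPthRoot p r) : Quiet.IsPthRoot p (i ≫ r) :=
  isPthRoot_of_isPullback p r (𝟙 R) i (i ≫ r) (IsPullback.of_horiz_isIso ⟨by simp⟩) hr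

/-- (P2) extractions of `p`-th roots compose (in characteristic `p`). -/
theorem isPthRoot_comp (p : ℕ) [hp : Fact p.Prime] {P Q R : Scheme.{u}} [FrobSch.IsCharP R p]
    (a : P ⟶ Q) (b : Q ⟶ R) (ha : Quiet.IsPthRoot p a) (hb : Quiet.IsPthRoot p b) :
    Quiet.IsPthRoot p (a ≫ b) := by
  have hhom := isHomeomorph_of_isPthRoot p b hb
  intro x
  obtain ⟨q, rfl⟩ := hhom.surjective x
  obtain ⟨⟨U', hU'⟩, hqU', hpre', na, hRTa⟩ := ha q
  obtain ⟨⟨U, hU⟩, hxU, hpre, nb, hRTb⟩ := hb (b q)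
  obtain ⟨O, hO⟩ : ∃ O : R.Opens, (O : Set R) = b '' (U' : Set Q) :=
    ⟨⟨b '' (U' : Set Q), hhom.isOpenMap _ U'.isOpen⟩, rfl⟩
  have hxO : b q ∈ O := by
    change b q ∈ (O : Set R)
    rw [hO]
    exact ⟨q, hqU', rfl⟩
  obtain ⟨h, hle, hxh⟩ := hU.exists_basicOpen_le (V := U ⊓ O) ⟨b q, ⟨hxU, hxO⟩⟩ hxU
  have hU''aff : IsAffineOpen (R.basicOpen h) := hU.basicOpen h
  have hU''le : R.basicOpen h ≤ U := R.basicOpen_le h
  obtain ⟨haffb, hRTb'⟩ := RT_app_of_isPullback p nb b (𝟙 R) (𝟙 Q) b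
    (IsPullback.of_horiz_isIso ⟨by simp⟩) U hU hpre hRTb (R.basicOpen h) hU''aff hU''le
  have hsub : b ⁻¹ᵁ (R.basicOpen h) ≤ U' := by
    intro z hz
    have hz' : b z ∈ (O : Set R) := (hle hz).2
    rw [hO] at hz'
    obtain ⟨z', hz'U, hzz⟩ := hz'
    have := hhom.injective hzz
    rw [← this]
    exact hz'U
  obtain ⟨haffa, hRTa'⟩ := RT_app_of_isPullback p na a (𝟙 Q) (𝟙 P) a
    (IsPullback.of_horiz_isIso ⟨by simp⟩) U' hU' hpre' hRTa (b ⁻¹ᵁ (R.basicOpen h)) haffb hsub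
  refine ⟨⟨R.basicOpen h, hU''aff⟩, hxh, haffa, nb + na, ?_⟩
  exact RT.comp hRTb' hRTa'

/-- the scheme-level exchange: an etale morphism followed by an extraction of `p`-th roots is
locally on the source an extraction of `p`-th roots followed by an etale morphism. -/
theorem exists_root_etale_of_etale_root (p : ℕ) [hp : Fact p.Prime] {N V Y₁ : Scheme.{u}}
    [FrobSch.IsCharP Y₁ p] (a : N ⟶ V) [Etale a] (r₁ : V ⟶ Y₁) (hr₁ : Quiet.IsPthRoot p r₁)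
    (z₁ : N) :
    ∃ (N' : Scheme.{u}) (j : N' ⟶ N) (_ : IsOpenImmersion j) (Z' : Scheme.{u}) (ρ : N' ⟶ Z')
      (ε : Z' ⟶ Y₁), z₁ ∈ Set.range j ∧ Quiet.IsPthRoot p ρ ∧ Etale ε ∧ ρ ≫ ε = j ≫ a ≫ r₁ := by
  obtain ⟨⟨US, hUS⟩, hmem, hpre, n, hRT⟩ := hr₁ (r₁ (a z₁))
  obtain ⟨TN, hTN, hzTN, hTNle⟩ : ∃ TN : N.Opens, IsAffineOpen TN ∧ z₁ ∈ TN ∧
      TN ≤ a ⁻¹ᵁ (r₁ ⁻¹ᵁ US) := by
    obtain ⟨U, hU, hxU, e⟩ := TopologicalSpace.Opens.isBasis_iff_nbhd.mp N.isBasis_affineOpens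
      (show z₁ ∈ a ⁻¹ᵁ (r₁ ⁻¹ᵁ US) from hmem)
    exact ⟨U, hU, hxU, e⟩
  have hβ : (a.appLE (r₁ ⁻¹ᵁ US) TN hTNle).hom.Etale :=
    (HasRingHomProperty.iff_appLE (P := @Etale)).1 (inferInstanceAs (Etale a))
      ⟨r₁ ⁻¹ᵁ US, hpre⟩ ⟨TN, hTN⟩ hTNle
  obtain ⟨W, _, e', jC, he', hjC, hcomp⟩ := exists_etale_swap p n
    (FrobSch.natCast_eq_zero_app Y₁ p US) (r₁.app US).hom hRT
    (a.appLE (r₁ ⁻¹ᵁ US) TN hTNle).hom hβ
  haveI : Etale (Spec.map (CommRingCat.ofHom e')) :=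
    (HasRingHomProperty.Spec_iff (P := @Etale)).mpr he'
  refine ⟨TN, TN.ι, inferInstance, Spec (CommRingCat.of W),
    hTN.isoSpec.hom ≫ Spec.map (CommRingCat.ofHom jC),
    Spec.map (CommRingCat.ofHom e') ≫ hUS.fromSpec, ?_, ?_, inferInstance, ?_⟩
  · rw [Scheme.Opens.range_ι]
    exact hzTN
  · exact isPthRoot_iso_comp p _ _ (isPthRoot_SpecMap_of_RT p n jC hjC)
  · have hc : CommRingCat.ofHom e' ≫ CommRingCat.ofHom jC = (a ≫ r₁).appLE US TN hTNle := by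
      have h1 : r₁.appLE US (r₁ ⁻¹ᵁ US) le_rfl ≫ a.appLE (r₁ ⁻¹ᵁ US) TN hTNle =
          (a ≫ r₁).appLE US TN hTNle := Scheme.Hom.appLE_comp_appLE a r₁ US (r₁ ⁻¹ᵁ US) TN le_rfl hTNle
      rw [← h1, Scheme.Hom.appLE_eq_app]
      apply CommRingCat.hom_ext
      exact hcomp
    rw [Category.assoc, ← Category.assoc (Spec.map (CommRingCat.ofHom jC)), ← Spec.map_comp, hc,
      IsAffineOpen.SpecMap_appLE_fromSpec (a ≫ r₁) hUS hTN hTNle, ← Category.assoc,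
      IsAffineOpen.isoSpec_hom_fromSpec]

/-- auxiliary: quasi-etale, with open immersions in place of open subsets. -/
def LQ (p : ℕ) {T X : Scheme.{u}} (h : T ⟶ X) : Prop :=
  ∀ t : T, ∃ (T' : Scheme.{u}) (j : T' ⟶ T) (_ : IsOpenImmersion j) (Y' : Scheme.{u})
    (r : T' ⟶ Y') (e : Y' ⟶ X),
    t ∈ Set.range j ∧ Quiet.IsPthRoot p r ∧ Etale e ∧ r ≫ e = j ≫ h

theorem LQ.of_isQuiet {p : ℕ} {T X : Scheme.{u}} {h : T ⟶ X} (hq : Quiet.IsQuiet p h) :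
    LQ p h := by
  intro t
  obtain ⟨V, Y', r, e, htV, hr, he, hfac⟩ := hq t
  refine ⟨V, V.ι, inferInstance, Y', r, e, ?_, hr, he, hfac⟩
  rw [Scheme.Opens.range_ι]
  exact htV

theorem LQ.isQuiet {p : ℕ} {T X : Scheme.{u}} {h : T ⟶ X} (hq : LQ p h) :
    Quiet.IsQuiet p h := by
  intro t
  obtain ⟨T', j, hj, Y', r, e, htj, hr, he, hfac⟩ := hq t
  haveI := hj
  refine ⟨j.opensRange, Y', j.isoOpensRange.inv ≫ r, e, htj, isPthRoot_iso_comp p _ _ hr, he, ?_⟩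
  rw [Category.assoc, hfac, ← Category.assoc, Scheme.Hom.isoOpensRange_inv_comp]

/-- (L1) `LQ` is local on the source. -/
theorem LQ.of_local {p : ℕ} {T X : Scheme.{u}} {h : T ⟶ X}
    (H : ∀ t : T, ∃ (T' : Scheme.{u}) (j : T' ⟶ T) (_ : IsOpenImmersion j),
      t ∈ Set.range j ∧ LQ p (j ≫ h)) : LQ p h := by
  intro t
  obtain ⟨T', j, hj, ⟨t', rfl⟩, hq⟩ := H t
  haveI := hj
  obtain ⟨T'', j', hj', Y', r, e, ⟨t'', rfl⟩, hr, he, hfac⟩ := hq t'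
  haveI := hj'
  refine ⟨T'', j' ≫ j, inferInstance, Y', r, e, ⟨t'', rfl⟩, hr, he, ?_⟩
  rw [hfac, Category.assoc]

/-- (L4) post-composition with an etale morphism. -/
theorem LQ.comp_etale {p : ℕ} {T X₁ X : Scheme.{u}} {h : T ⟶ X₁} (hq : LQ p h) (e₁ : X₁ ⟶ X)
    [Etale e₁] : LQ p (h ≫ e₁) := by
  intro t
  obtain ⟨T', j, hj, Y', r, e, htj, hr, he, hfac⟩ := hq t
  haveI := he
  refine ⟨T', j, hj, Y', r, e ≫ e₁, htj, hr, inferInstance, ?_⟩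
  rw [← Category.assoc, hfac, Category.assoc]

/-- (L3) pre-composition with an extraction of `p`-th roots. -/
theorem LQ.root_comp {p : ℕ} [hp : Fact p.Prime] {T T₂ X : Scheme.{u}} [FrobSch.IsCharP X p]
    (r₀ : T ⟶ T₂) (hr₀ : Quiet.IsPthRoot p r₀) {h : T₂ ⟶ X} (hq : LQ p h) : LQ p (r₀ ≫ h) := by
  intro t
  obtain ⟨T₂', j₂, hj₂, Y', r₂, e, ht₂, hr₂, he, hfac⟩ := hq (r₀ t)
  haveI := hj₂
  haveI : FrobSch.IsCharP Y' p := FrobSch.IsCharP.of_hom e p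
  have hr' : Quiet.IsPthRoot p (pullback.snd r₀ j₂) :=
    isPthRoot_of_isPullback p r₀ j₂ (pullback.fst r₀ j₂) (pullback.snd r₀ j₂)
      (IsPullback.of_hasPullback r₀ j₂) hr₀
  refine ⟨pullback r₀ j₂, pullback.fst r₀ j₂, inferInstance, Y', pullback.snd r₀ j₂ ≫ r₂, e, ?_,
    isPthRoot_comp p _ _ hr' hr₂, he, ?_⟩
  · rw [Scheme.Pullback.range_fst]
    exact ht₂
  · rw [Category.assoc, hfac, ← Category.assoc, ← pullback.condition, Category.assoc]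

/-- (L5) an etale morphism followed by an extraction of `p`-th roots is `LQ`. -/
theorem LQ.etale_root {p : ℕ} [hp : Fact p.Prime] {N V Y₁ : Scheme.{u}} [FrobSch.IsCharP Y₁ p]
    (a : N ⟶ V) [Etale a] (r₁ : V ⟶ Y₁) (hr₁ : Quiet.IsPthRoot p r₁) : LQ p (a ≫ r₁) := by
  intro z₁
  obtain ⟨N', j, hj, Z', ρ, ε, hz, hρ, hε, hfac⟩ := exists_root_etale_of_etale_root p a r₁ hr₁ z₁
  exact ⟨N', j, hj, Z', ρ, ε, hz, hρ, hε, by rw [hfac]⟩

/-- (M1) an etale morphism followed by a quasi-etale morphism is `LQ`. -/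
theorem LQ.etale_comp_quiet {p : ℕ} [hp : Fact p.Prime] {Z₁ Y X : Scheme.{u}}
    [FrobSch.IsCharP X p] (e₂ : Z₁ ⟶ Y) [Etale e₂] (f : Y ⟶ X) (hf : Quiet.IsQuiet p f) :
    LQ p (e₂ ≫ f) := by
  apply LQ.of_local
  intro z₁
  obtain ⟨V, Y₁, r₁, e₁, hyV, hr₁, he₁, hfac⟩ := hf (e₂ z₁)
  haveI := he₁
  haveI : FrobSch.IsCharP Y₁ p := FrobSch.IsCharP.of_hom e₁ p
  refine ⟨e₂ ⁻¹ᵁ V, (e₂ ⁻¹ᵁ V).ι, inferInstance, ?_, ?_⟩
  · rw [Scheme.Opens.range_ι]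
    exact hyV
  · have e : (e₂ ⁻¹ᵁ V).ι ≫ e₂ ≫ f = ((e₂ ∣_ V) ≫ r₁) ≫ e₁ := by
      rw [Category.assoc, hfac, morphismRestrict_ι_assoc]
    rw [e]
    exact (LQ.etale_root (e₂ ∣_ V) r₁ hr₁).comp_etale e₁

/-- quasi-etale morphisms compose. -/
theorem isQuiet_comp (p : ℕ) [hp : Fact p.Prime] {X Y Z : Scheme.{u}} [FrobSch.IsCharP X p]
    (f : Y ⟶ X) (g : Z ⟶ Y) (hf : Quiet.IsQuiet p f) (hg : Quiet.IsQuiet p g) :
    Quiet.IsQuiet p (g ≫ f) := by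
  apply LQ.isQuiet
  apply LQ.of_local
  intro z
  obtain ⟨W, Z₁, r₂, e₂, hzW, hr₂, he₂, hfac⟩ := hg z
  haveI := he₂
  refine ⟨W, W.ι, inferInstance, ?_, ?_⟩
  · rw [Scheme.Opens.range_ι]
    exact hzW
  · have e : W.ι ≫ g ≫ f = r₂ ≫ e₂ ≫ f := by
      rw [← Category.assoc, ← hfac, Category.assoc]
    rw [e]
    exact LQ.root_comp r₂ hr₂ (LQ.etale_comp_quiet e₂ f hf)

end Groth.Agent.Helper2.QuietLib
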