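import Mathlib
import Groth.Prelude.Def_W4c2gaugesfzipsQuiet
import Groth.Prelude.Def_RegImm
import Groth.Agent.Lib.Helper2.Quiet.Ring
import Groth.Agent.Lib.Helper2.Synt.SplitAlg
import Groth.Agent.Lib.Lead.SyntLci1
import Groth.Agent.Lib.Lead.LciSmooth2

set_option autoImplicit false
set_option backward.isDefEq.respectTransparency.types false
set_option synthInstance.maxHeartbeats 400000
set_option maxHeartbeats 4000000
set_option linter.style.haveILetI false
set_option linter.unusedSectionVars false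
set_option linter.unusedVariables false
set_option linter.unusedSimpArgs false
set_option linter.unnecessarySimpa false

/-! helper2: quasi-etale morphisms are syntomic. -/

open CategoryTheory CategoryTheory.Limits AlgebraicGeometry Opposite

universe u

namespace Groth.Agent.Helper2.QuietLib

open Groth.Agent.Lead.SyntLci Groth.Agent.Lead.LciLocal

theorem isSyntomic_of_isRootTower (p : ℕ) (hp : p ≠ 0) (n : ℕ) :
    ∀ (A B : Type u) [CommRing A] [CommRing B] [Algebra A B],
      Quiet.IsRootTower p n A B → Synt.IsSyntomic A B := by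
  induction n with
  | zero =>
    intro A B _ _ _ h
    obtain ⟨e⟩ := h
    haveI : Algebra.Smooth A A := ⟨inferInstance, inferInstance⟩
    haveI : Algebra.Smooth A B := Algebra.Smooth.of_equiv e.symm
    exact Groth.Agent.Lead.SyntSm.isSyntomic_of_smooth A B
  | succ n ih =>
    intro A B _ _ _ h
    obtain ⟨a, alg₁, tower, h'⟩ := h
    have h1 : Synt.IsSyntomic A (Quiet.RootRing p A a) :=
      Groth.Agent.Helper2.Synt.isSyntomic_adjoinRoot A _ (Polynomial.monic_X_pow_sub_C a hp)
    exact Groth.Agent.Helper2.Synt.isSyntomic_comp A (Quiet.RootRing p A a) B h1 (ih _ B h')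

theorem isSyntomicMor_of_isPthRoot (p : ℕ) (hp : p ≠ 0) {V Z : Scheme.{u}} (r : V ⟶ Z)
    (hr : Quiet.IsPthRoot p r) : Synt.IsSyntomicMor r := by
  intro x
  obtain ⟨U, hxU, haff, n, htower⟩ := hr (r x)
  refine ⟨⟨r ⁻¹ᵁ U.1, haff⟩, U, le_rfl, hxU, ?_⟩
  have h := @isSyntomic_of_isRootTower p hp n Γ(Z, U.1) Γ(V, r ⁻¹ᵁ U.1) _ _
    (r.app U.1).hom.toAlgebra htower
  change @Synt.IsSyntomic Γ(Z, U.1) _ Γ(V, r ⁻¹ᵁ U.1) _
    (r.appLE U.1 (r ⁻¹ᵁ U.1) le_rfl).hom.toAlgebra
  rw [← Scheme.Hom.app_eq_appLE]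
  exact h

theorem isSyntomicMor_of_isQuiet (p : ℕ) [hp : Fact p.Prime] {X Y : Scheme.{u}} (f : Y ⟶ X)
    (hf : Quiet.IsQuiet p f) : Synt.IsSyntomicMor f := by
  have H : Bridge.{u} :=
    fun R S _ _ _ => Groth.Agent.Helper2.Synt.isSyntomic_iff_flat_and_isLCI R S
  choose V Z r e hyV hr he hfac using hf
  have hcov : ⨆ y, V y = ⊤ := by
    apply top_le_iff.mp
    intro y _
    exact TopologicalSpace.Opens.mem_iSup.mpr ⟨y, hyV y⟩
  have key : ∀ y, Flat ((V y).ι ≫ f) ∧ LciMor ((V y).ι ≫ f) := by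
    intro y
    rw [← hfac y]
    obtain ⟨h1, h2⟩ := flat_and_lciMor_of_isSyntomicMor H (r y)
      (isSyntomicMor_of_isPthRoot p hp.out.ne_zero (r y) (hr y))
    haveI := h1
    haveI : Etale (e y) := he y
    exact ⟨inferInstance, MorphismProperty.comp_mem (@LciMor) _ _ h2 (lciMor_of_smooth (e y))⟩
  haveI : Flat f :=
    (IsZariskiLocalAtSource.iff_of_iSup_eq_top (P := @Flat) V hcov).mpr (fun y => (key y).1)
  have hl : LciMor f :=
    (IsZariskiLocalAtSource.iff_of_iSup_eq_top (P := @LciMor) V hcov).mpr (fun y => (key y).2)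
  exact isSyntomicMor_of_flat_of_lciMor H f hl

end Groth.Agent.Helper2.QuietLib
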