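import Mathlib
import Groth.Prelude.Def_W4c2gaugesfzipsQuiet
import Groth.Agent.Lib.Helper2.Quiet.Ring
import Groth.Agent.Lib.Helper2.EtThick.Main
import Groth.Agent.Lib.Helper9.ThickAff

set_option autoImplicit false
set_option backward.isDefEq.respectTransparency.types false
set_option synthInstance.maxHeartbeats 400000
set_option maxHeartbeats 4000000
set_option linter.style.haveILetI false
set_option linter.unusedSectionVars false
set_option linter.unusedVariables false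
set_option linter.unusedSimpArgs false
set_option linter.unnecessarySimpa false

/-! helper2: quasi-etale morphisms lift locally along thickenings. -/

open CategoryTheory CategoryTheory.Limits AlgebraicGeometry Opposite

universe u

namespace Groth.Agent.Helper2.QuietLib

/-- an open of a thickening whose preimage is affine is affine. -/
theorem isAffineOpen_of_thickening {X X' : Scheme.{u}} (t : X ⟶ X') [IsClosedImmersion t]
    (ht : Function.Surjective t) (V : X'.Opens) (haff : IsAffineOpen (t ⁻¹ᵁ V)) :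
    IsAffineOpen V := by
  haveI : IsAffine (t ⁻¹ᵁ V).toScheme := haff
  haveI : IsClosedImmersion (t ∣_ V) := MorphismProperty.of_isPullback
    (isPullback_morphismRestrict t V).flip inferInstance
  have hs : Function.Surjective (t ∣_ V) := by
    intro y
    obtain ⟨x, hx⟩ := ht y.1
    have hxV : x ∈ t ⁻¹ᵁ V := by
      change t x ∈ V
      rw [hx]
      exact y.2
    refine ⟨⟨x, hxV⟩, ?_⟩
    apply Subtype.ext
    rw [← hx]
    exact morphismRestrict_base_coe t V ⟨x, hxV⟩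
  exact H9ThickAff.isAffine_of_thickening (t ∣_ V) hs

theorem isPthRoot_top_ι_SpecMap (p n : ℕ) {A B : Type u} [CommRing A] [CommRing B] [Algebra A B]
    (h : Quiet.IsRootTower p n A B) :
    Quiet.IsPthRoot p ((⊤ : (Spec (CommRingCat.of B)).Opens).ι ≫
      Spec.map (CommRingCat.ofHom (algebraMap A B))) := by
  intro x
  haveI : IsAffine ((⊤ : (Spec (CommRingCat.of B)).Opens) : Scheme.{u}) :=
    isAffineOpen_top (Spec (CommRingCat.of B))
  refine ⟨⟨⊤, isAffineOpen_top _⟩, trivial, isAffineOpen_top _, n, ?_⟩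
  let ι := (⊤ : (Spec (CommRingCat.of B)).Opens).ι
  let α : A ≃+* Γ(Spec (CommRingCat.of A), ⊤) :=
    (Scheme.ΓSpecIso (CommRingCat.of A)).symm.commRingCatIsoToRingEquiv
  let β : B ≃+* Γ(((⊤ : (Spec (CommRingCat.of B)).Opens) : Scheme.{u}), ⊤) :=
    ((Scheme.ΓSpecIso (CommRingCat.of B)).symm ≪≫
      Scheme.Γ.mapIso (Spec (CommRingCat.of B)).topIso.op).commRingCatIsoToRingEquiv
  letI : Algebra Γ(Spec (CommRingCat.of A), ⊤)
      Γ(((⊤ : (Spec (CommRingCat.of B)).Opens) : Scheme.{u}), ⊤) :=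
    (ι ≫ Spec.map (CommRingCat.ofHom (algebraMap A B))).appTop.hom.toAlgebra
  refine isRootTower_of_equiv p n A B Γ(Spec (CommRingCat.of A), ⊤)
    Γ(((⊤ : (Spec (CommRingCat.of B)).Opens) : Scheme.{u}), ⊤) α β ?_ h
  intro a
  have nat := Scheme.ΓSpecIso_inv_naturality (CommRingCat.ofHom (algebraMap A B))
  have h1 : (Scheme.ΓSpecIso (CommRingCat.of B)).inv.hom (algebraMap A B a) =
      (Spec.map (CommRingCat.ofHom (algebraMap A B))).appTop.hom
        ((Scheme.ΓSpecIso (CommRingCat.of A)).inv.hom a) := congr($(nat).hom a)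
  change ι.appTop.hom ((Scheme.ΓSpecIso (CommRingCat.of B)).inv.hom (algebraMap A B a)) =
    ι.appTop.hom ((Spec.map (CommRingCat.ofHom (algebraMap A B))).appTop.hom
      ((Scheme.ΓSpecIso (CommRingCat.of A)).inv.hom a))
  rw [h1]

theorem isQuiet_SpecMap_comp (p n : ℕ) {A B : Type u} [CommRing A] [CommRing B] [Algebra A B]
    (h : Quiet.IsRootTower p n A B) {X : Scheme.{u}} (e : Spec (CommRingCat.of A) ⟶ X)
    [Etale e] :
    Quiet.IsQuiet p (Spec.map (CommRingCat.ofHom (algebraMap A B)) ≫ e) := by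
  intro y
  exact ⟨⊤, Spec (CommRingCat.of A), _, e, trivial, isPthRoot_top_ι_SpecMap p n h, inferInstance,
    Category.assoc _ _ _⟩

/-- quasi-etale morphisms lift locally along thickenings. -/
theorem exists_isQuiet_isPullback (p : ℕ) {T U U' : Scheme.{u}} (i : U ⟶ T)
    [IsClosedImmersion i] [Surjective i] (f' : U' ⟶ U) (hf' : Quiet.IsQuiet p f') (u : U') :
    ∃ (V : U'.Opens) (T' : Scheme.{u}) (q : T' ⟶ T) (j : (V : Scheme.{u}) ⟶ T'),
      u ∈ V ∧ Quiet.IsQuiet p q ∧ IsPullback j (V.ι ≫ f') q i := by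
  obtain ⟨V₁, Y', r, e, huV₁, hr, he, hre⟩ := hf' u
  haveI : Etale (Over.mk e).hom := he
  obtain ⟨E, eT, hE, ε, hε⟩ := EtThick.exists_etale_lift i (Over.mk e)
  obtain ⟨iE, hiE⟩ : ∃ iE : Y' ⟶ E, iE = ε.inv ≫ pullback.fst eT i := ⟨_, rfl⟩
  have hε' : ε.inv ≫ pullback.snd eT i = e := by
    rw [← hε, Iso.inv_hom_id_assoc]
    rfl
  have hpbE : IsPullback iE e eT i := by
    refine IsPullback.of_iso_pullback ⟨?_⟩ ε.symm ?_ ?_
    · rw [hiE, Category.assoc, pullback.condition, reassoc_of% hε']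
    · exact hiE.symm
    · exact hε'
  haveI : IsClosedImmersion iE :=
    MorphismProperty.of_isPullback (P := @IsClosedImmersion) hpbE.flip inferInstance
  haveI : Surjective iE :=
    MorphismProperty.of_isPullback (P := @Surjective) hpbE.flip inferInstance
  obtain ⟨⟨W, hW⟩, hyW, hrW, n, htower⟩ := hr (r ⟨u, huV₁⟩)
  obtain ⟨Wt, rfl⟩ : ∃ Wt : E.Opens, iE ⁻¹ᵁ Wt = W :=
    ⟨H9ThickAff.img iE iE.surjective W, H9ThickAff.preimage_img iE iE.surjective W⟩
  have hW₀ : IsAffineOpen (iE ⁻¹ᵁ Wt) := hW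
  have hWt : IsAffineOpen Wt := isAffineOpen_of_thickening iE iE.surjective Wt hW
  letI algψ₀ : Algebra Γ(Y', iE ⁻¹ᵁ Wt) Γ((V₁ : Scheme.{u}), r ⁻¹ᵁ (iE ⁻¹ᵁ Wt)) :=
    (r.app (iE ⁻¹ᵁ Wt)).hom.toAlgebra
  have hφ : Function.Surjective (iE.app Wt).hom := iE.app_surjective Wt hWt
  obtain ⟨B, iB, algB, φ', hBt, hpush⟩ := exists_rootTower_lift p n Γ(E, Wt) Γ(Y', iE ⁻¹ᵁ Wt)
    Γ((V₁ : Scheme.{u}), r ⁻¹ᵁ (iE ⁻¹ᵁ Wt)) (iE.app Wt).hom hφ htower
  have eφ : CommRingCat.ofHom (iE.app Wt).hom = iE.app Wt := rfl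
  have eψ₀ : CommRingCat.ofHom
      (algebraMap Γ(Y', iE ⁻¹ᵁ Wt) Γ((V₁ : Scheme.{u}), r ⁻¹ᵁ (iE ⁻¹ᵁ Wt))) =
      r.app (iE ⁻¹ᵁ Wt) := rfl
  rw [eφ, eψ₀] at hpush
  have top := (isPullback_SpecMap_of_isPushout _ _ _ _ hpush).flip
  have mid : IsPullback (Spec.map (iE.app Wt)) hW₀.fromSpec hWt.fromSpec iE := by
    refine IsOpenImmersion.isPullback _ _ _ _ ?_ ?_
    · rw [Scheme.Hom.app_eq_appLE]
      exact (IsAffineOpen.SpecMap_appLE_fromSpec iE hWt hW₀ le_rfl).symm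
    · rw [hWt.opensRange_fromSpec, hW₀.opensRange_fromSpec]
  have big := (top.paste_vert mid).paste_vert hpbE
  have hrfs : Spec.map (r.app (iE ⁻¹ᵁ Wt)) ≫ hW₀.fromSpec = hrW.fromSpec ≫ r := by
    rw [Scheme.Hom.app_eq_appLE]
    exact IsAffineOpen.SpecMap_appLE_fromSpec r hW₀ hrW le_rfl
  obtain ⟨g, hg⟩ : ∃ g : Spec Γ((V₁ : Scheme.{u}), r ⁻¹ᵁ (iE ⁻¹ᵁ Wt)) ⟶ U',
      g = hrW.fromSpec ≫ V₁.ι := ⟨_, rfl⟩
  have hsnd : (Spec.map (r.app (iE ⁻¹ᵁ Wt)) ≫ hW₀.fromSpec) ≫ e = g ≫ f' := by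
    rw [hrfs, Category.assoc, hre, hg, Category.assoc]
  rw [hsnd] at big
  haveI : IsOpenImmersion g := by rw [hg]; infer_instance
  haveI hét : Etale (hWt.fromSpec ≫ eT) := inferInstance
  have hq : Quiet.IsQuiet p
      ((Spec.map (CommRingCat.ofHom (algebraMap Γ(E, Wt) B)) ≫ hWt.fromSpec) ≫ eT) := by
    rw [Category.assoc]
    exact isQuiet_SpecMap_comp p n hBt (hWt.fromSpec ≫ eT)
  refine ⟨g.opensRange, Spec (CommRingCat.of B), _,
    g.isoOpensRange.inv ≫ Spec.map (CommRingCat.ofHom φ'), ?_, hq, ?_⟩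
  · have hu' : (⟨u, huV₁⟩ : (V₁ : Scheme.{u})) ∈ Set.range hrW.fromSpec := by
      rw [hrW.range_fromSpec]
      exact hyW
    obtain ⟨z, hz⟩ := hu'
    refine ⟨z, ?_⟩
    rw [hg, Scheme.Hom.comp_apply, hz]
    rfl
  · refine big.of_iso g.isoOpensRange (Iso.refl _) (Iso.refl _) (Iso.refl _) ?_ ?_ ?_ ?_
    · rw [Iso.hom_inv_id_assoc]
      exact Category.comp_id _
    · simp
    · simp
    · simp

end Groth.Agent.Helper2.QuietLib
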